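import Cfsg.Agent.Lib.ZCReduction.Basic
import Mathlib.GroupTheory.Sylow
import Mathlib.GroupTheory.GroupAction.Quotient

/-!
Counting involutions over a subgroup which controls the centralizers of its three commuting involutions.
-/

set_option autoImplicit false
set_option linter.unusedSectionVars false
set_option linter.style.haveILetI false

namespace CfsgLib.U34Char

open Subgroup

universe u

/-- A map with fibres of constant size. -/
theorem card_eq_mul_of_fibres {A B : Type*} [Finite A] [Finite B] (f : A → B) {k : ℕ}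
    (hk : ∀ b, Nat.card {a // f a = b} = k) : Nat.card A = Nat.card B * k := by
  haveI := Fintype.ofFinite B
  rw [← Nat.card_congr (Equiv.sigmaFiberEquiv f), Nat.card_sigma, Finset.sum_congr rfl fun b _ => hk b,
    Finset.sum_const, Finset.card_univ, smul_eq_mul, Nat.card_eq_fintype_card]

/-- `H` is embedded with respect to the four-group `V`, and `y` is an element of order three. -/
structure Emb {K : Type u} [Group K] (H V : Subgroup K) (y : K) : Prop where
  le : V ≤ H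
  card_V : Nat.card V = 4
  sq : ∀ v ∈ V, v * v = 1
  invol : ∀ t ∈ H, t * t = 1 → t ∈ V
  into : ∀ t : K, t * t = 1 → ∃ g : K, g * t * g⁻¹ ∈ V
  ti : ∀ g : K, ∀ v ∈ V, v ≠ 1 → g * v * g⁻¹ ∈ V → g ∈ H
  cent_five : ∀ v ∈ V, v ≠ 1 → ∀ x ∈ H, Odd (orderOf x) → x * v = v * x → x ^ 5 = 1
  no_five : ∀ d ∈ H, d ^ 5 = 1 → ∀ g : K, g * d * g⁻¹ = d⁻¹ → d = 1
  card_H : Nat.card H ∣ 960
  y_mem : y ∈ H
  y_ord : orderOf y = 3
  card_norm : Nat.card ↥(normalizer ((zpowers y : Subgroup K) : Set K) ⊓ H) = 15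

namespace Emb

variable {K : Type u} [Group K] [Finite K] {H V : Subgroup K} {y : K}

theorem exists_invol_pow {x : K} (hx : ¬ Odd (orderOf x)) :
    ∃ k : ℕ, x ^ k * x ^ k = 1 ∧ x ^ k ≠ 1 := by
  obtain ⟨k, hk⟩ := Nat.not_odd_iff_even.1 hx
  refine ⟨k, by rw [← pow_add, ← hk, pow_orderOf_eq_one], fun e => ?_⟩
  have h1 := orderOf_dvd_of_pow_eq_one e
  have hk0 : 0 < k := by have := orderOf_pos x; omega
  have := Nat.le_of_dvd hk0 h1
  omega

theorem conj_sq {t g : K} (ht : t * t = 1) : g * t * g⁻¹ * (g * t * g⁻¹) = 1 := by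
  rw [show g * t * g⁻¹ * (g * t * g⁻¹) = g * (t * t) * g⁻¹ by group, ht]; group

theorem normalizes (h : Emb H V y) {g v : K} (hg : g ∈ H) (hv : v ∈ V) : g * v * g⁻¹ ∈ V :=
  h.invol _ (mul_mem (mul_mem hg (h.le hv)) (inv_mem hg)) (conj_sq (h.sq v hv))

/-- Outside `H` the intersection with a conjugate has odd order. -/
theorem odd_inter (h : Emb H V y) {g x : K} (hg : g ∉ H) (hx : x ∈ H) (hx' : g⁻¹ * x * g ∈ H) :
    Odd (orderOf x) := by
  by_contra hodd
  obtain ⟨k, hk, hk1⟩ := exists_invol_pow hodd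
  have hgk : g⁻¹ * x ^ k * g ∈ H := by
    rw [show g⁻¹ * x ^ k * g = g⁻¹ * x ^ k * g⁻¹⁻¹ by rw [inv_inv], ← conj_pow, inv_inv]
    exact pow_mem hx' k
  have hv := h.invol _ (pow_mem hx k) hk
  have hgv : g⁻¹ * x ^ k * g⁻¹⁻¹ ∈ V := h.invol _ (by rwa [inv_inv]) (conj_sq hk)
  exact hg (inv_inv g ▸ inv_mem (h.ti g⁻¹ _ hv hk1 hgv))

theorem nine_not_dvd (h : Emb H V y) : ¬ 9 ∣ Nat.card H := fun e => by
  have : (9 : ℕ) ∣ 960 := e.trans h.card_H
  norm_num at this

/-- The subgroups of order three of `H`. -/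
def Threes (H : Subgroup K) : Type u := {P : Subgroup K // P ≤ H ∧ Nat.card P = 3}

instance : Finite (Threes H) := inferInstanceAs (Finite {P : Subgroup K // P ≤ H ∧ Nat.card P = 3})

theorem zpowers_three (h : Emb H V y) : zpowers y ≤ H ∧ Nat.card (zpowers y) = 3 :=
  ⟨zpowers_le.2 h.y_mem, by rw [Nat.card_zpowers, h.y_ord]⟩

theorem exists_conj_three (h : Emb H V y) {P : Subgroup K} (hP : P ≤ H) (hP3 : Nat.card P = 3) :
    ∃ g ∈ H, (zpowers y).map (MulAut.conj g).toMonoidHom = P := by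
  haveI : Fact (Nat.Prime 3) := ⟨Nat.prime_three⟩
  obtain ⟨hY, hY3⟩ := h.zpowers_three
  have hfac : (Nat.card H).factorization 3 = 1 := by
    refine le_antisymm ?_ ?_
    · by_contra hc
      exact h.nine_not_dvd ((Nat.Prime.pow_dvd_iff_le_factorization Nat.prime_three Nat.card_pos.ne').2
        (Nat.not_le.1 hc : 2 ≤ (Nat.card H).factorization 3))
    · exact (Nat.Prime.dvd_iff_one_le_factorization Nat.prime_three Nat.card_pos.ne').1
        (hY3 ▸ Subgroup.card_dvd_of_le hY)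
  let PP : Sylow 3 H := Sylow.ofCard (P.subgroupOf H) (by
    rw [Nat.card_congr (subgroupOfEquivOfLe hP).toEquiv, hP3, hfac, pow_one])
  let YY : Sylow 3 H := Sylow.ofCard ((zpowers y).subgroupOf H) (by
    rw [Nat.card_congr (subgroupOfEquivOfLe hY).toEquiv, hY3, hfac, pow_one])
  obtain ⟨g, hg⟩ := MulAction.exists_smul_eq H YY PP
  refine ⟨g, g.2, ?_⟩
  have e := congrArg (fun Q : Sylow 3 H => (Q : Subgroup H).map H.subtype) hg
  simp only [Sylow.coe_subgroup_smul] at e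
  simp only [YY, PP, Sylow.coe_ofCard, map_subgroupOf_eq_of_le hP] at e
  rw [← e]
  ext x
  simp only [Subgroup.mem_map, MulAut.conj_apply, MulEquiv.coe_toMonoidHom, Subgroup.mem_smul_pointwise_iff_exists,
    MulAut.smul_def]
  constructor
  · rintro ⟨w, hw, rfl⟩
    exact ⟨_, ⟨⟨w, hY hw⟩, hw, rfl⟩, rfl⟩
  · rintro ⟨_, ⟨w, hw, rfl⟩, rfl⟩
    exact ⟨w, hw, rfl⟩

theorem mem_normalizer_iff_map (g : K) (P : Subgroup K) :
    g ∈ normalizer (P : Set K) ↔ P.map (MulAut.conj g).toMonoidHom = P := mem_normalizer_iff_map_conj_eq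

theorem map_conj_mul (g g' : K) (P : Subgroup K) :
    P.map (MulAut.conj (g * g')).toMonoidHom = (P.map (MulAut.conj g').toMonoidHom).map (MulAut.conj g).toMonoidHom := by
  rw [Subgroup.map_map]
  congr 1
  ext x
  simp [mul_assoc]

theorem card_threes (h : Emb H V y) : Nat.card H = Nat.card (Threes H) * 15 := by
  obtain ⟨hY, hY3⟩ := h.zpowers_three
  refine card_eq_mul_of_fibres (fun g : H => (⟨(zpowers y).map (MulAut.conj (g : K)).toMonoidHom, by
    rintro x ⟨w, hw, rfl⟩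
    exact mul_mem (mul_mem g.2 (hY hw)) (inv_mem g.2), by
    rw [card_map_of_injective (MulEquiv.injective _), hY3]⟩ : Threes H)) ?_
  rintro ⟨P, hP, hP3⟩
  obtain ⟨g, hg, he⟩ := h.exists_conj_three hP hP3
  rw [← h.card_norm]
  refine Nat.card_congr
    { toFun := fun a => ⟨g⁻¹ * (a.1 : K), mem_inf.2 ⟨(mem_normalizer_iff_map _ _).2 ?_, mul_mem (inv_mem hg) a.1.2⟩⟩
      invFun := fun n => ⟨⟨g * (n : K), mul_mem hg (mem_inf.1 n.2).2⟩, Subtype.ext ?_⟩
      left_inv := fun a => Subtype.ext (Subtype.ext (mul_inv_cancel_left _ _))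
      right_inv := fun n => Subtype.ext (inv_mul_cancel_left _ _) }
  · have e : (zpowers y).map (MulAut.conj ((a.1 : H) : K)).toMonoidHom = P := congrArg Subtype.val a.2
    rw [map_conj_mul, e, ← he, ← map_conj_mul, inv_mul_cancel, map_one]
    exact Subgroup.map_id _
  · show (zpowers y).map (MulAut.conj (g * (n : K))).toMonoidHom = P
    rw [map_conj_mul, (mem_normalizer_iff_map _ _).1 (mem_inf.1 n.2).1, he]

/-- The involutions. -/
def Inv (K : Type u) [Group K] : Type u := {t : K // t * t = 1 ∧ t ≠ 1}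

instance : Finite (Inv K) := inferInstanceAs (Finite {t : K // t * t = 1 ∧ t ≠ 1})

theorem card_nontrivial (h : Emb H V y) : Nat.card {v : V // v ≠ 1} = 3 := by
  classical
  haveI := Fintype.ofFinite V
  rw [Nat.card_eq_fintype_card, Fintype.card_subtype_compl, ← Nat.card_eq_fintype_card, h.card_V]
  simp

theorem card_inv (h : Emb H V y) : Nat.card (Inv K) = Nat.card (K ⧸ H) * 3 := by
  rw [← h.card_nontrivial, ← Nat.card_prod]
  let ψ : (K ⧸ H) × {v : V // v ≠ 1} → Inv K := fun p =>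
    ⟨p.1.out * (p.2.1 : K) * p.1.out⁻¹, conj_sq (h.sq _ p.2.1.2),
      fun e => p.2.2 (Subtype.ext (conj_eq_one_iff.1 e))⟩
  refine (Nat.card_congr (Equiv.ofBijective ψ ⟨?_, ?_⟩)).symm
  · rintro ⟨q, v⟩ ⟨q', v'⟩ e
    have e' : q.out * (v.1 : K) * q.out⁻¹ = q'.out * (v'.1 : K) * q'.out⁻¹ := congrArg Subtype.val e
    have e2 : q'.out⁻¹ * q.out * (v.1 : K) * (q'.out⁻¹ * q.out)⁻¹ = (v'.1 : K) := by
      calc q'.out⁻¹ * q.out * (v.1 : K) * (q'.out⁻¹ * q.out)⁻¹
          = q'.out⁻¹ * (q.out * (v.1 : K) * q.out⁻¹) * q'.out := by group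
        _ = q'.out⁻¹ * (q'.out * (v'.1 : K) * q'.out⁻¹) * q'.out := by rw [e']
        _ = _ := by group
    have hmem := h.ti _ _ v.1.2 (fun e0 => v.2 (Subtype.ext e0)) (e2 ▸ v'.1.2)
    obtain rfl : q' = q := by
      rw [← q'.out_eq', ← q.out_eq']
      exact QuotientGroup.eq.2 hmem
    exact Prod.ext rfl (Subtype.ext (Subtype.ext (mul_left_cancel (mul_right_cancel e'))))
  · rintro ⟨t, ht, ht1⟩
    obtain ⟨g, hg⟩ := h.into t ht
    set q : K ⧸ H := QuotientGroup.mk g⁻¹ with hq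
    have hh : g * q.out ∈ H := by
      have := QuotientGroup.eq.1 (q.out_eq'.trans hq).symm
      rwa [inv_inv] at this
    have hv : q.out⁻¹ * t * q.out ∈ V := by
      have := h.normalizes (inv_mem hh) hg
      rwa [show (g * q.out)⁻¹ * (g * t * g⁻¹) * (g * q.out)⁻¹⁻¹ = q.out⁻¹ * t * q.out by group] at this
    refine ⟨(q, ⟨⟨_, hv⟩, fun e => ht1 ?_⟩), Subtype.ext (by show q.out * (q.out⁻¹ * t * q.out) * q.out⁻¹ = t; group)⟩
    have e' : q.out⁻¹ * t * q.out = 1 := congrArg Subtype.val e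
    calc t = q.out * (q.out⁻¹ * t * q.out) * q.out⁻¹ := by group
      _ = 1 := by rw [e']; group

/-- Two involutions in a coset outside `H`. -/
theorem pair_facts (h : Emb H V y) {t t' : K} (ht : t * t = 1) (ht' : t' * t' = 1) (htH : t ∉ H)
    (e : t⁻¹ * t' ∈ H) :
    t * t' ∈ H ∧ t * (t * t') * t⁻¹ = (t * t')⁻¹ ∧ Odd (orderOf (t * t')) ∧ t⁻¹ * (t * t') * t ∈ H := by
  have hti : t⁻¹ = t := inv_eq_of_mul_eq_one_right ht
  have hti' : t'⁻¹ = t' := inv_eq_of_mul_eq_one_right ht'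
  rw [hti] at e
  have hinv : t * (t * t') * t⁻¹ = (t * t')⁻¹ := by
    rw [mul_inv_rev, hti', hti, ← mul_assoc t t t', ht, one_mul]
  have hconj : t⁻¹ * (t * t') * t ∈ H := by
    have := inv_mem e
    rw [← hinv, hti] at this
    rwa [hti]
  exact ⟨e, hinv, h.odd_inter htH e hconj, hconj⟩

/-- Over every point other than `H` some element of order three of `H` is inverted. -/
theorem exists_inverted (h : Emb H V y) (q : K ⧸ H) (hq : q ≠ QuotientGroup.mk 1) :
    ∃ t x : K, t * t = 1 ∧ QuotientGroup.mk t = q ∧ x ∈ H ∧ orderOf x = 3 ∧ t * x * t⁻¹ = x⁻¹ := by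
  classical
  haveI := Fintype.ofFinite (K ⧸ H)
  obtain ⟨v0, hv0, hv01⟩ : ∃ v ∈ V, v ≠ (1 : K) := by
    obtain ⟨v⟩ : Nonempty {v : V // v ≠ 1} :=
      (Nat.card_pos_iff.1 (h.card_nontrivial ▸ (by norm_num : 0 < 3))).1
    exact ⟨v.1, v.1.2, fun e => v.2 (Subtype.ext e)⟩
  let F : K ⧸ H → Type u := fun p => {t : Inv K // (QuotientGroup.mk t.1 : K ⧸ H) = p}
  have hle : ∀ p : K ⧸ H, p ≠ QuotientGroup.mk 1 → Nat.card (F p) ≤ 3 := by
    intro p hp
    by_cases hne : Nonempty (F p)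
    · obtain ⟨⟨⟨t0, ht0, ht01⟩, ht0p⟩⟩ := hne
      have hout : ∀ t : F p, t.1.1 ∉ H := fun t hm => hp (t.2.symm.trans (QuotientGroup.eq.2 (by simpa using hm)))
      have hmem : ∀ t : F p, t0 * t.1.1 ∈ H := fun t =>
        (h.pair_facts ht0 t.1.2.1 (hout ⟨⟨t0, ht0, ht01⟩, ht0p⟩)
          (QuotientGroup.eq.1 (ht0p.trans t.2.symm))).1
      rw [← h.card_nontrivial]
      refine Nat.card_le_card_of_injective (fun t : F p => (⟨⟨t0 * t.1.1 * v0 * (t0 * t.1.1)⁻¹,
        h.normalizes (hmem t) hv0⟩, fun e => hv01 (conj_eq_one_iff.1 (congrArg Subtype.val e))⟩ : {v : V // v ≠ 1})) ?_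
      intro t t' e
      have e' : t0 * t.1.1 * v0 * (t0 * t.1.1)⁻¹ = t0 * t'.1.1 * v0 * (t0 * t'.1.1)⁻¹ :=
        congrArg (fun w : {v : V // v ≠ 1} => (w.1 : K)) e
      have htt : t'.1.1⁻¹ * t.1.1 ∈ H := QuotientGroup.eq.1 (t'.2.trans t.2.symm)
      obtain ⟨hx, hinv, hodd, -⟩ := h.pair_facts t'.1.2.1 t.1.2.1 (hout t') htt
      have hti : t'.1.1⁻¹ = t'.1.1 := inv_eq_of_mul_eq_one_right t'.1.2.1
      have hcomm : t'.1.1 * t.1.1 * v0 = v0 * (t'.1.1 * t.1.1) := by
        calc t'.1.1 * t.1.1 * v0 = (t0 * t'.1.1)⁻¹ * (t0 * t.1.1 * v0 * (t0 * t.1.1)⁻¹) * (t0 * t.1.1) := by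
              rw [mul_inv_rev t0, hti]; group
          _ = (t0 * t'.1.1)⁻¹ * (t0 * t'.1.1 * v0 * (t0 * t'.1.1)⁻¹) * (t0 * t.1.1) := by rw [e']
          _ = v0 * (t'.1.1⁻¹ * t.1.1) := by group
          _ = _ := by rw [hti]
      have h1 := h.no_five _ hx (h.cent_five v0 hv0 hv01 _ hx hodd hcomm) _ hinv
      exact Subtype.ext (Subtype.ext ((eq_inv_of_mul_eq_one_right h1).trans hti))
    · haveI := not_nonempty_iff.1 hne
      simp
  have hone : Nat.card (F (QuotientGroup.mk 1)) = 3 := by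
    rw [← h.card_nontrivial]
    refine Nat.card_congr
      { toFun := fun t => ⟨⟨t.1.1, h.invol _ (by simpa using QuotientGroup.eq.1 t.2.symm) t.1.2.1⟩,
          fun e => t.1.2.2 (congrArg Subtype.val e)⟩
        invFun := fun v => ⟨⟨v.1, h.sq _ v.1.2, fun e => v.2 (Subtype.ext e)⟩,
          QuotientGroup.eq.2 (by simpa using h.le v.1.2)⟩
        left_inv := fun t => rfl
        right_inv := fun v => rfl }
  have htot : Nat.card (Inv K) = ∑ p : K ⧸ H, Nat.card (F p) := by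
    rw [← Nat.card_congr (Equiv.sigmaFiberEquiv fun t : Inv K => (QuotientGroup.mk t.1 : K ⧸ H)), Nat.card_sigma]
  have hq3 : Nat.card (F q) = 3 := by
    by_contra hne
    have hlt : ∑ p : K ⧸ H, Nat.card (F p) < ∑ _p : K ⧸ H, 3 :=
      Finset.sum_lt_sum (fun p _ => if hp : p = QuotientGroup.mk 1 then (hp ▸ hone).le else hle p hp)
        ⟨q, Finset.mem_univ q, lt_of_le_of_ne (hle q hq) hne⟩
    rw [← htot, h.card_inv, Finset.sum_const, Finset.card_univ, smul_eq_mul, Nat.card_eq_fintype_card] at hlt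
    exact lt_irrefl _ hlt
  haveI : Nontrivial (F q) := Finite.one_lt_card_iff_nontrivial.1 (by omega)
  obtain ⟨⟨⟨t, ht, ht1⟩, htq⟩, ⟨⟨t', ht', ht1'⟩, htq'⟩, hne⟩ := exists_pair_ne (F q)
  have htH : t ∉ H := fun hm => hq (htq.symm.trans (QuotientGroup.eq.2 (by simpa using hm)))
  obtain ⟨hx, hinv, hodd, hx'⟩ := h.pair_facts ht ht' htH (QuotientGroup.eq.1 (htq.trans htq'.symm))
  set x := t * t' with hxdef
  have hx1 : x ≠ 1 := fun e => hne (Subtype.ext (Subtype.ext
    (((eq_inv_of_mul_eq_one_right e).trans (inv_eq_of_mul_eq_one_right ht)).symm)))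
  have h15 : x ^ 15 = 1 := by
    refine orderOf_dvd_iff_pow_eq_one.1 ?_
    have h960 : orderOf x ∣ 64 * 15 := (Subgroup.orderOf_dvd_natCard H hx).trans h.card_H
    exact ((Nat.coprime_two_right.2 hodd).pow_right 6).dvd_of_dvd_mul_left h960
  have h5 : x ^ 5 ≠ 1 := fun e => hx1 (h.no_five x hx e t hinv)
  refine ⟨t, x ^ 5, ht, htq, pow_mem hx 5, ?_, by rw [← conj_pow, hinv, inv_pow]⟩
  exact orderOf_eq_prime (hp := ⟨Nat.prime_three⟩) (by rw [← pow_mul]; exact h15) h5

/-- The points fixed by a subgroup. -/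
def Fix (H P : Subgroup K) : Type u := {q : K ⧸ H // ∀ x ∈ P, x • q = q}

instance (P : Subgroup K) : Finite (Fix H P) := inferInstanceAs (Finite {q : K ⧸ H // ∀ x ∈ P, x • q = q})

theorem smul_mk_eq {x g : K} : x • (QuotientGroup.mk g : K ⧸ H) = QuotientGroup.mk g ↔ g⁻¹ * x * g ∈ H := by
  show (QuotientGroup.mk (x * g) : K ⧸ H) = _ ↔ _
  rw [QuotientGroup.eq]
  constructor
  · intro e
    have := inv_mem e
    rwa [mul_inv_rev, inv_inv, ← mul_assoc] at this
  · intro e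
    have := inv_mem e
    rwa [show (g⁻¹ * x * g)⁻¹ = (x * g)⁻¹ * g by group] at this

theorem fix_one (P : Subgroup K) (hP : P ≤ H) : ∀ x ∈ P, x • (QuotientGroup.mk 1 : K ⧸ H) = QuotientGroup.mk 1 :=
  fun x hx => smul_mk_eq.2 (by simpa using hP hx)

/-- Two subgroups of order three of `H` fixing another point agree. -/
theorem fix_unique (h : Emb H V y) {g : K} (hg : g ∉ H) {P P' : Subgroup K} (hP : P ≤ H) (hP' : P' ≤ H)
    (h3 : Nat.card P = 3) (h3' : Nat.card P' = 3) (hfix : ∀ x ∈ P, g⁻¹ * x * g ∈ H)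
    (hfix' : ∀ x ∈ P', g⁻¹ * x * g ∈ H) : P = P' := by
  haveI : Fact (Nat.Prime 3) := ⟨Nat.prime_three⟩
  set D := H ⊓ H.map (MulAut.conj g).toMonoidHom
  have hD : ∀ x, x ∈ D → x ∈ H ∧ g⁻¹ * x * g ∈ H := by
    rintro x ⟨hx, w, hw, rfl⟩
    refine ⟨hx, ?_⟩
    show g⁻¹ * (g * w * g⁻¹) * g ∈ H
    rwa [show g⁻¹ * (g * w * g⁻¹) * g = w by group]
  have hPD : ∀ Q : Subgroup K, Q ≤ H → (∀ x ∈ Q, g⁻¹ * x * g ∈ H) → Q ≤ D := fun Q hQ hf x hx =>
    ⟨hQ hx, g⁻¹ * x * g, hf x hx, by show g * (g⁻¹ * x * g) * g⁻¹ = x; group⟩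
  have hodd : ¬ 2 ∣ Nat.card D := fun e => by
    haveI : Fact (Nat.Prime 2) := ⟨Nat.prime_two⟩
    obtain ⟨x, hx⟩ := exists_prime_orderOf_dvd_card' 2 e
    have := h.odd_inter hg (hD _ x.2).1 (hD _ x.2).2
    rw [Subgroup.orderOf_coe, hx] at this
    exact absurd this (by decide)
  have h15 : Nat.card D ∣ 15 := by
    have h960 : Nat.card D ∣ 64 * 15 := (Subgroup.card_dvd_of_le inf_le_left).trans h.card_H
    exact (((Nat.prime_two.coprime_iff_not_dvd.2 hodd).symm).pow_right 6).dvd_of_dvd_mul_left h960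
  have h3D : 3 ∣ Nat.card D := h3 ▸ Subgroup.card_dvd_of_le (hPD P hP hfix)
  have hfac : (Nat.card D).factorization 3 = 1 := by
    refine le_antisymm ?_ ((Nat.Prime.dvd_iff_one_le_factorization Nat.prime_three Nat.card_pos.ne').1 h3D)
    by_contra hc
    have : (9 : ℕ) ∣ 15 := ((Nat.Prime.pow_dvd_iff_le_factorization Nat.prime_three Nat.card_pos.ne').2
      (Nat.not_le.1 hc : 2 ≤ (Nat.card D).factorization 3)).trans h15
    norm_num at this
  let SP : Sylow 3 D := Sylow.ofCard (P.subgroupOf D) (by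
    rw [Nat.card_congr (subgroupOfEquivOfLe (hPD P hP hfix)).toEquiv, h3, hfac, pow_one])
  let SP' : Sylow 3 D := Sylow.ofCard (P'.subgroupOf D) (by
    rw [Nat.card_congr (subgroupOfEquivOfLe (hPD P' hP' hfix')).toEquiv, h3', hfac, pow_one])
  have hn1 : Nat.card (Sylow 3 D) = 1 := by
    have hm := card_sylow_modEq_one 3 D
    have hd := SP.card_dvd_index
    have hi : (SP : Subgroup D).index ∣ 5 := by
      have hmul := (SP : Subgroup D).card_mul_index
      rw [show Nat.card (SP : Subgroup D) = 3 by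
        rw [SP.card_eq_multiplicity, hfac, pow_one]] at hmul
      exact Nat.dvd_of_mul_dvd_mul_left (by norm_num : 0 < 3) (hmul ▸ (h15 : Nat.card D ∣ 3 * 5))
    rcases (Nat.dvd_prime Nat.prime_five).1 (hd.trans hi) with e | e
    · exact e
    · rw [e] at hm; exact absurd hm (by decide)
  haveI := (Nat.card_eq_one_iff_unique.1 hn1).1
  have e := congrArg (fun Q : Sylow 3 D => (Q : Subgroup D).map D.subtype) (Subsingleton.elim SP SP')
  simpa [SP, SP', map_subgroupOf_eq_of_le (hPD P hP hfix), map_subgroupOf_eq_of_le (hPD P' hP' hfix')] using e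

/-- The points other than `H` are distributed over the subgroups of order three. -/
theorem card_points (h : Emb H V y) :
    Nat.card (K ⧸ H) = 1 + Nat.card (Threes H) * (Nat.card (Fix H (zpowers y)) - 1) := by
  classical
  obtain ⟨hY, hY3⟩ := h.zpowers_three
  haveI := Fintype.ofFinite (Threes H)
  haveI := Fintype.ofFinite (K ⧸ H)
  let Y' : Threes H → Type u := fun P => {q : K ⧸ H // q ≠ QuotientGroup.mk 1 ∧ ∀ x ∈ P.1, x • q = q}
  have hconst : ∀ P : Threes H, Nat.card (Y' P) = Nat.card (Fix H (zpowers y)) - 1 := by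
    intro P
    obtain ⟨g, hg, he⟩ := h.exists_conj_three P.2.1 P.2.2
    have hgone : g • (QuotientGroup.mk 1 : K ⧸ H) = QuotientGroup.mk 1 := smul_mk_eq.2 (by simpa using hg)
    have e1 : Nat.card (Y' P) = Nat.card {q : K ⧸ H // q ≠ QuotientGroup.mk 1 ∧ ∀ x ∈ zpowers y, x • q = q} := by
      refine (Nat.card_congr (Equiv.subtypeEquiv (MulAction.toPerm g) fun q => ?_)).symm
      show _ ↔ g • q ≠ QuotientGroup.mk 1 ∧ ∀ x ∈ P.1, x • g • q = g • q
      refine and_congr (not_congr ⟨fun e => by rw [e, hgone], fun e => ?_⟩) ⟨fun hq x hx => ?_, fun hq x hx => ?_⟩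
      · have := congrArg (g⁻¹ • ·) e
        simp only [inv_smul_smul] at this
        rwa [show g⁻¹ • (QuotientGroup.mk 1 : K ⧸ H) = QuotientGroup.mk 1 from
          inv_smul_eq_iff.2 hgone.symm] at this
      · rw [← he] at hx
        obtain ⟨w, hw, rfl⟩ := hx
        show (g * w * g⁻¹) • g • q = g • q
        rw [mul_smul, mul_smul, inv_smul_smul, hq w hw]
      · have h2 := hq (g * x * g⁻¹) (he ▸ ⟨x, hx, rfl⟩)
        rw [mul_smul, mul_smul, inv_smul_smul] at h2
        exact MulAction.injective g h2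
    rw [e1]
    have e2 : Nat.card (Fix H (zpowers y)) =
        Nat.card {q : K ⧸ H // q ≠ QuotientGroup.mk 1 ∧ ∀ x ∈ zpowers y, x • q = q} + 1 := by
      haveI : Fintype (Fix H (zpowers y)) := Fintype.ofFinite _
      let o : Fix H (zpowers y) := ⟨QuotientGroup.mk 1, fix_one _ hY⟩
      have : Nat.card {f : Fix H (zpowers y) // f ≠ o} + 1 = Nat.card (Fix H (zpowers y)) := by
        rw [Nat.card_eq_fintype_card, Fintype.card_subtype_compl, Nat.card_eq_fintype_card]
        simp only [Fintype.card_unique]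
        have : 0 < Fintype.card (Fix H (zpowers y)) := Fintype.card_pos_iff.2 ⟨o⟩
        omega
      rw [← this]
      congr 1
      exact Nat.card_congr
        { toFun := fun f => ⟨f.1.1, fun e => f.2 (Subtype.ext e), f.1.2⟩
          invFun := fun q => ⟨⟨q.1, q.2.2⟩, fun e => q.2.1 (congrArg Subtype.val e)⟩
          left_inv := fun f => rfl
          right_inv := fun q => rfl }
    omega
  let φ : (Σ P : Threes H, Y' P) → {q : K ⧸ H // q ≠ QuotientGroup.mk 1} := fun p => ⟨p.2.1, p.2.2.1⟩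
  have hφ : Function.Bijective φ := by
    constructor
    · rintro ⟨P, q, hq1, hq⟩ ⟨P', q', hq1', hq'⟩ e
      obtain rfl : q = q' := congrArg Subtype.val e
      obtain ⟨g, rfl⟩ := QuotientGroup.mk_surjective q
      have hg : g ∉ H := fun hm => hq1 (QuotientGroup.eq.2 (by simpa using inv_mem hm))
      obtain rfl : P = P' := Subtype.ext (h.fix_unique hg P.2.1 P'.2.1 P.2.2 P'.2.2
        (fun x hx => smul_mk_eq.1 (hq x hx)) (fun x hx => smul_mk_eq.1 (hq' x hx)))
      rfl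
    · rintro ⟨q, hq⟩
      obtain ⟨t, x, ht, rfl, hxH, hx3, hinv⟩ := h.exists_inverted q hq
      refine ⟨⟨⟨zpowers x, zpowers_le.2 hxH, by rw [Nat.card_zpowers, hx3]⟩, QuotientGroup.mk t, hq, ?_⟩, rfl⟩
      intro w hw
      refine smul_mk_eq.2 ?_
      obtain ⟨k, rfl⟩ := hw
      have hti : t⁻¹ = t := inv_eq_of_mul_eq_one_right ht
      show t⁻¹ * x ^ k * t ∈ H
      rw [hti] at hinv ⊢
      have e : t * x ^ k * t = (x⁻¹) ^ k := by
        rw [← hinv]
        conv_lhs => rw [show t * x ^ k * t = t * x ^ k * t⁻¹ by rw [hti]]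
        conv_rhs => rw [show t * x * t = t * x * t⁻¹ by rw [hti], conj_zpow]
      rw [e]
      exact zpow_mem (inv_mem hxH) k
  have hS : Nat.card {q : K ⧸ H // q ≠ QuotientGroup.mk 1} + 1 = Nat.card (K ⧸ H) := by
    rw [Nat.card_eq_fintype_card, Fintype.card_subtype_compl, Nat.card_eq_fintype_card]
    simp only [Fintype.card_unique]
    have : 0 < Fintype.card (K ⧸ H) := Fintype.card_pos_iff.2 ⟨QuotientGroup.mk 1⟩
    omega
  rw [← hS, ← Nat.card_congr (Equiv.ofBijective φ hφ), Nat.card_sigma, Finset.sum_congr rfl fun P _ => hconst P,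
    Finset.sum_const, Finset.card_univ, smul_eq_mul, ← Nat.card_eq_fintype_card]
  ring

/-- The normalizer is transitive on the fixed points. -/
theorem card_normalizer (h : Emb H V y) :
    Nat.card (normalizer ((zpowers y : Subgroup K) : Set K)) = Nat.card (Fix H (zpowers y)) * 15 := by
  obtain ⟨hY, hY3⟩ := h.zpowers_three
  set N := normalizer ((zpowers y : Subgroup K) : Set K)
  refine card_eq_mul_of_fibres (fun g : N => (⟨QuotientGroup.mk (g : K), fun x hx => smul_mk_eq.2 (hY ?_)⟩ :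
    Fix H (zpowers y))) ?_
  · have := (mem_normalizer_iff.1 (inv_mem g.2) x).1 hx
    rwa [inv_inv] at this
  rintro ⟨q, hq⟩
  obtain ⟨g, rfl⟩ := QuotientGroup.mk_surjective q
  obtain ⟨m, hm, he⟩ := h.exists_conj_three (P := (zpowers y).map (MulAut.conj g⁻¹).toMonoidHom) (by
    rintro x ⟨w, hw, rfl⟩
    show g⁻¹ * w * g⁻¹⁻¹ ∈ H
    rw [inv_inv]
    exact smul_mk_eq.1 (hq w hw)) (by rw [card_map_of_injective (MulEquiv.injective _), hY3])
  have hn : g * m ∈ N := (mem_normalizer_iff_map _ _).2 (by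
    rw [map_conj_mul, he, ← map_conj_mul, mul_inv_cancel, map_one]; exact Subgroup.map_id _)
  rw [← h.card_norm]
  refine Nat.card_congr
    { toFun := fun a => ⟨(g * m)⁻¹ * (a.1 : K), mem_inf.2 ⟨mul_mem (inv_mem hn) a.1.2, ?_⟩⟩
      invFun := fun x => ⟨⟨g * m * (x : K), mul_mem hn (mem_inf.1 x.2).1⟩, Subtype.ext (QuotientGroup.eq.2 ?_)⟩
      left_inv := fun a => Subtype.ext (Subtype.ext (mul_inv_cancel_left _ _))
      right_inv := fun x => Subtype.ext (inv_mul_cancel_left _ _) }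
  · have e : (QuotientGroup.mk ((a.1 : N) : K) : K ⧸ H) = QuotientGroup.mk g := congrArg Subtype.val a.2
    have h1 := inv_mem (QuotientGroup.eq.1 e)
    rw [show (g * m)⁻¹ * ((a.1 : N) : K) = m⁻¹ * (((a.1 : N) : K)⁻¹ * g)⁻¹ by group]
    exact mul_mem (inv_mem hm) h1
  · show (g * m * (x : K))⁻¹ * g ∈ H
    rw [show (g * m * (x : K))⁻¹ * g = (x : K)⁻¹ * m⁻¹ by group]
    exact mul_mem (inv_mem (mem_inf.1 x.2).2) (inv_mem hm)

/-- The centralizer of `y` has odd order. -/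
theorem cent_odd (h : Emb H V y) : Odd (Nat.card (centralizer ({y} : Set K))) := by
  refine Nat.not_even_iff_odd.1 fun he => ?_
  haveI : Fact (Nat.Prime 2) := ⟨Nat.prime_two⟩
  obtain ⟨t, ht⟩ := exists_prime_orderOf_dvd_card' 2 (even_iff_two_dvd.1 he)
  have ht2 : (t : K) * t = 1 := by
    rw [← pow_two, ← ht, ← Subgroup.orderOf_coe, pow_orderOf_eq_one]
  have ht1 : (t : K) ≠ 1 := fun e => by
    rw [← Subgroup.orderOf_coe, e, orderOf_one] at ht; norm_num at ht
  obtain ⟨g, hg⟩ := h.into _ ht2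
  have hv1 : g * (t : K) * g⁻¹ ≠ 1 := fun e => ht1 (conj_eq_one_iff.1 e)
  set x := g * y * g⁻¹ with hxdef
  have hc : x * (g * (t : K) * g⁻¹) = g * (t : K) * g⁻¹ * x := by
    have hty : (t : K) * y = y * t := mem_centralizer_singleton_iff.1 t.2
    calc x * (g * (t : K) * g⁻¹) = g * (y * t) * g⁻¹ := by rw [hxdef]; group
      _ = g * ((t : K) * y) * g⁻¹ := by rw [hty]
      _ = _ := by rw [hxdef]; group
  have hxH : x ∈ H := h.ti x _ hg hv1 (by rwa [hc, mul_inv_cancel_right])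
  have hord : orderOf x = 3 := by
    rw [hxdef, show g * y * g⁻¹ = (MulAut.conj g).toMonoidHom y from rfl,
      orderOf_injective _ (MulEquiv.injective (MulAut.conj g)), h.y_ord]
  have := orderOf_dvd_of_pow_eq_one (h.cent_five _ hg hv1 x hxH (by rw [hord]; decide) hc)
  rw [hord] at this
  norm_num at this

theorem three_cases {x w : K} (hx : orderOf x = 3) (hw : w ∈ zpowers x) (hw1 : w ≠ 1) : w = x ∨ w = x⁻¹ := by
  obtain ⟨k, rfl⟩ := mem_powers_iff_mem_zpowers.2 hw
  simp only at hw1 ⊢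
  rw [← pow_mod_orderOf, hx] at hw1 ⊢
  have hx3 : x ^ 3 = 1 := by rw [← hx, pow_orderOf_eq_one]
  rcases (by omega : k % 3 = 0 ∨ k % 3 = 1 ∨ k % 3 = 2) with e | e | e <;> rw [e] at hw1 ⊢
  · exact absurd (pow_zero x) hw1
  · exact Or.inl (pow_one x)
  · exact Or.inr (eq_inv_of_mul_eq_one_left (by rw [← pow_succ, hx3]))

/-- **The count.** -/
theorem count (h : Emb H V y) (hne : H ≠ ⊤) :
    ∃ m : ℕ, Odd m ∧ Nat.card (centralizer ({y} : Set K)) = 15 * m ∧
      15 * (H.index - 1) = Nat.card H * (2 * m - 1) := by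
  obtain ⟨hY, hY3⟩ := h.zpowers_three
  set N := normalizer ((zpowers y : Subgroup K) : Set K)
  set A := centralizer ({y} : Set K)
  obtain ⟨g0, hg0⟩ : ∃ g, g ∉ H := by
    by_contra hc; push Not at hc; exact hne ((Subgroup.eq_top_iff' H).2 hc)
  obtain ⟨t, x, -, -, hxH, hx3, hinv⟩ := h.exists_inverted (QuotientGroup.mk g0) (fun e => hg0 (by
    have := QuotientGroup.eq.1 e.symm; simpa using this))
  obtain ⟨g, hg, he⟩ := h.exists_conj_three (zpowers_le.2 hxH) (by rw [Nat.card_zpowers, hx3])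
  have hxy : g * y * g⁻¹ = x ∨ g * y * g⁻¹ = x⁻¹ := three_cases hx3 (he ▸ ⟨y, mem_zpowers y, rfl⟩) fun e => by
    have : orderOf y = 1 := orderOf_eq_one_iff.2 (conj_eq_one_iff.1 e)
    rw [h.y_ord] at this; norm_num at this
  set i := g⁻¹ * t * g with hi
  have hiy : i * y * i⁻¹ = y⁻¹ := by
    rw [show i * y * i⁻¹ = g⁻¹ * (t * (g * y * g⁻¹) * t⁻¹) * g by rw [hi]; group]
    rcases hxy with e | e
    · rw [e, hinv, ← e]; group
    · have e' : t * x⁻¹ * t⁻¹ = x := by rw [show t * x⁻¹ * t⁻¹ = (t * x * t⁻¹)⁻¹ by group, hinv, inv_inv]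
      rw [e, e', ← inv_inv x, ← e]; group
  have hy1 : y ≠ 1 := fun e => by simpa [e] using h.y_ord
  have hiN : i ∈ N := (mem_normalizer_iff_map _ _).2 (by
    rw [MonoidHom.map_zpowers]
    show zpowers (i * y * i⁻¹) = zpowers y
    rw [hiy, zpowers_inv])
  have hiA : i ∉ A := fun hm => by
    have e1 : i * y * i⁻¹ = y := by rw [mem_centralizer_singleton_iff.1 hm, mul_inv_cancel_right]
    rw [hiy] at e1
    have : orderOf y ∣ 2 := orderOf_dvd_of_pow_eq_one (by rw [pow_two]; nth_rw 1 [← e1]; exact inv_mul_cancel y)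
    rw [h.y_ord] at this; norm_num at this
  have hAN : A ≤ N := fun a ha => by
    refine centralizer_le_normalizer _ (mem_centralizer_iff.2 fun w hw => ?_)
    obtain ⟨k, rfl⟩ := hw
    exact ((show Commute a y from mem_centralizer_singleton_iff.1 ha).zpow_right k).eq.symm
  have h2 : Nat.card N = 2 * Nat.card A := by
    have hmem : ∀ n ∈ N, n ∈ A ∨ i⁻¹ * n ∈ A := by
      intro n hn
      have hny : n * y * n⁻¹ ∈ zpowers y := (mem_normalizer_iff.1 hn y).1 (mem_zpowers y)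
      rcases three_cases h.y_ord hny (fun e => hy1 (conj_eq_one_iff.1 e)) with e | e
      · exact Or.inl (mem_centralizer_singleton_iff.2 (mul_inv_eq_iff_eq_mul.1 e))
      · refine Or.inr (mem_centralizer_singleton_iff.2 (mul_inv_eq_iff_eq_mul.1 ?_))
        rw [show i⁻¹ * n * y * (i⁻¹ * n)⁻¹ = i⁻¹ * (n * y * n⁻¹) * i by group, e, ← hiy]
        group
    have hidx : (A.subgroupOf N).index = 2 := index_eq_two_iff.2 ⟨⟨i, hiN⟩, fun b => by
      simp only [mem_subgroupOf, Subgroup.coe_mul]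
      by_cases hb : (b : K) ∈ A
      · exact Or.inr ⟨hb, fun h' => hiA (by
          have := mul_mem (inv_mem hb) h'
          rwa [inv_mul_cancel_left] at this)⟩
      · refine Or.inl ⟨?_, hb⟩
        have hb' : (b : K)⁻¹ ∉ A := fun h' => hb (by simpa using inv_mem h')
        have h1 := inv_mem ((hmem _ (inv_mem b.2)).resolve_left hb')
        rwa [mul_inv_rev, inv_inv, inv_inv] at h1⟩
    have := (A.subgroupOf N).card_mul_index
    rw [hidx, Nat.card_congr (subgroupOfEquivOfLe hAN).toEquiv] at this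
    omega
  obtain ⟨k, hk0⟩ := h.cent_odd
  have hk : Nat.card A = 2 * k + 1 := hk0
  have hF := h.card_normalizer
  have hpts := h.card_points
  have hT := h.card_threes
  obtain ⟨m, hm⟩ : ∃ m, Nat.card A = 15 * m := by
    refine (Nat.Coprime.dvd_of_dvd_mul_left (by norm_num : Nat.Coprime 15 2) ?_)
    rw [← h2, hF]
    exact dvd_mul_left _ _
  refine ⟨m, ?_, hm, ?_⟩
  · refine Nat.not_even_iff_odd.1 fun ⟨c, hc⟩ => ?_
    omega
  · have hF2 : Nat.card (Fix H (zpowers y)) = 2 * m := by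
      have : Nat.card (Fix H (zpowers y)) * 15 = 2 * (15 * m) := by rw [← hF, h2, hm]
      omega
    rw [index, hpts, hF2, hT]
    simp only [Nat.add_sub_cancel_left]
    ring

end Emb

end CfsgLib.U34Char
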