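import Cfsg.Agent.Lib.U34Char.Five.Table
import Cfsg.Agent.Lib.U34Char.Order.Count
import Mathlib.FieldTheory.Finite.Basic

/-!
The normalizer of `S` when the cores of the involution centralizers are trivial.
-/

set_option autoImplicit false
set_option linter.unusedSectionVars false
set_option linter.style.haveILetI false

namespace CfsgLib.U34Char

open Subgroup Cfsg CfsgLib.HallE8 CfsgLib.ZCReduction CfsgLib.PiClosedTwo
open scoped commutatorElement

universe u

variable {G : Type u} [Group G] [Finite G]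

/-- An element of order prime to `p - 1` normalizing a subgroup of order `p` centralizes it. -/
theorem commute_of_coprime_pred {g x : G} {p : ℕ} [hp : Fact p.Prime] (hx : orderOf x = p)
    (hg : (orderOf g).Coprime (p - 1)) (hn : g * x * g⁻¹ ∈ zpowers x) : g * x = x * g := by
  obtain ⟨k, hk⟩ := mem_powers_iff_mem_zpowers.2 hn
  have hk' : x ^ k = g * x * g⁻¹ := hk
  have hiter : ∀ i : ℕ, g ^ i * x * (g ^ i)⁻¹ = x ^ (k ^ i) := by
    intro i
    induction i with
    | zero => simp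
    | succ i ih =>
      calc g ^ (i + 1) * x * (g ^ (i + 1))⁻¹ = g * (g ^ i * x * (g ^ i)⁻¹) * g⁻¹ := by rw [pow_succ']; group
        _ = g * x ^ (k ^ i) * g⁻¹ := by rw [ih]
        _ = (g * x * g⁻¹) ^ (k ^ i) := by rw [conj_pow]
        _ = x ^ (k ^ (i + 1)) := by rw [← hk', ← pow_mul, ← pow_succ']
  have h1 : x ^ (k ^ orderOf g) = x ^ 1 := by
    rw [← hiter, pow_orderOf_eq_one, pow_one]; group
  have hmod : ((k : ZMod p)) ^ orderOf g = 1 := by
    have := pow_eq_pow_iff_modEq.1 h1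
    rw [hx] at this
    have := (ZMod.natCast_eq_natCast_iff _ _ _).2 this
    simpa using this
  have hk0 : (k : ZMod p) ≠ 0 := fun e => by
    rw [e, zero_pow (orderOf_pos g).ne'] at hmod
    exact zero_ne_one hmod
  have hk1 : (k : ZMod p) = 1 := by
    have h3 := pow_gcd_eq_one.2 ⟨hmod, ZMod.pow_card_sub_one_eq_one hk0⟩
    rwa [hg.gcd_eq_one, pow_one] at h3
  have hxk : x ^ k = x := by
    conv_rhs => rw [← pow_one x]
    refine pow_eq_pow_iff_modEq.2 ?_
    rw [hx]
    exact (ZMod.natCast_eq_natCast_iff _ _ _).1 (by simpa using hk1)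
  exact mul_inv_eq_iff_eq_mul.1 (hk'.symm.trans hxk)

/-- A subgroup of prime power order is conjugate into a given Sylow subgroup. -/
theorem exists_conj_sylow {p : ℕ} [Fact p.Prime] (P : Sylow p G) {Q : Subgroup G} (hQ : IsPGroup p Q) :
    ∃ m : G, ∀ w ∈ Q, m * w * m⁻¹ ∈ (P : Subgroup G) := by
  obtain ⟨T, hT⟩ := hQ.exists_le_sylow
  obtain ⟨m, hm⟩ := MulAction.exists_smul_eq G T P
  refine ⟨m, fun w hw => ?_⟩
  rw [← hm]
  exact ⟨w, hT hw, rfl⟩

/-- `f` acts as an element of order five and the cores of the centralizers of involutions are trivial. -/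
structure Triv (S : Sylow 2 G) (f : G) : Prop where
  conf : Conf S
  five : Five S f
  core : ∀ z ∈ four S, z ≠ 1 → theta z = ⊥

namespace Triv

variable {S : Sylow 2 G} {f : G}

theorem f_pow (h : Triv S f) : f ^ 5 = 1 := by
  obtain ⟨z, hz, hz1⟩ := h.conf.exists_ne_one
  exact Subgroup.mem_bot.1 (h.core z hz hz1 ▸ h.five.five_mem z hz hz1)

theorem f_ord (h : Triv S f) : orderOf f = 5 :=
  ((Nat.dvd_prime Nat.prime_five).1 (orderOf_dvd_of_pow_eq_one h.f_pow)).resolve_left fun e => by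
    have := Five.five_dvd h.conf h.five
    rw [e] at this
    norm_num at this

theorem f_normalizes (h : Triv S f) : f ∈ normalizer ((S : Subgroup G) : Set G) := h.five.mem.1

theorem cent_eq (h : Triv S f) {z : G} (hz : z ∈ four S) (hz1 : z ≠ 1) {g : G}
    (hg : g ∈ centralizer ({z} : Set G)) : ∃ j < 5, ∃ s ∈ (S : Subgroup G), g = f ^ j * s := by
  obtain ⟨o, ho, j, hj, s, hs, e⟩ := h.five.decomp z hz hz1 g hg
  rw [h.core z hz hz1, Subgroup.mem_bot] at ho
  exact ⟨j, hj, s, hs, by rw [e, ho, one_mul]⟩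

theorem decomp_unique (h : Triv S f) {s s' : G} (hs : s ∈ (S : Subgroup G)) (hs' : s' ∈ (S : Subgroup G))
    {i j : ℕ} (hi : i < 5) (hj : j < 5) (e : f ^ i * s = f ^ j * s') : i = j ∧ s = s' := by
  obtain ⟨z, hz, hz1⟩ := h.conf.exists_ne_one
  obtain ⟨-, hij, hss⟩ := Five.decomp_inj h.conf h.five hz (one_mem (theta z)) (one_mem (theta z)) hs hs' hi hj
    (by rw [one_mul, one_mul]; exact e)
  exact ⟨hij, hss⟩

theorem cent_le (h : Triv S f) {z : G} (hz : z ∈ four S) (hz1 : z ≠ 1) :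
    centralizer ({z} : Set G) ≤ normalizer ((S : Subgroup G) : Set G) := fun g hg => by
  obtain ⟨j, -, s, hs, rfl⟩ := h.cent_eq hz hz1 hg
  exact mul_mem (pow_mem h.f_normalizes j) (le_normalizer hs)

theorem card_cent (h : Triv S f) {z : G} (hz : z ∈ four S) (hz1 : z ≠ 1) :
    Nat.card (centralizer ({z} : Set G)) = 320 := by
  rw [show (320 : ℕ) = Nat.card (Fin 5 × (S : Subgroup G)) by rw [Nat.card_prod, Nat.card_fin, h.conf.hs.card]]
  refine (Nat.card_congr (Equiv.ofBijective (fun p : Fin 5 × (S : Subgroup G) =>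
    (⟨f ^ (p.1 : ℕ) * p.2, mul_mem (h.five.pow_mem_cent hz _) (Five.sylow_le h.conf hz p.2.2)⟩ :
      centralizer ({z} : Set G))) ⟨?_, ?_⟩)).symm
  · rintro ⟨i, s⟩ ⟨j, s'⟩ e
    obtain ⟨hij, hss⟩ := h.decomp_unique s.2 s'.2 i.2 j.2 (congrArg Subtype.val e)
    rw [Fin.ext hij, Subtype.ext hss]
  · rintro ⟨g, hg⟩
    obtain ⟨j, hj, s, hs, rfl⟩ := h.cent_eq hz hz1 hg
    exact ⟨(⟨j, hj⟩, ⟨s, hs⟩), rfl⟩

theorem cent_mem_four (h : Triv S f) {z : G} (hz : z ∈ four S) (hz1 : z ≠ 1) {g : G}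
    (hg : g ∈ centralizer ({z} : Set G)) : g ∈ centralizer (four S : Set G) := by
  obtain ⟨j, -, s, hs, rfl⟩ := h.cent_eq hz hz1 hg
  exact mul_mem (pow_mem h.five.mem.2 j) (h.conf.sylow_le_cent hs)

theorem cent_congr (h : Triv S f) {v w : G} (hv : v ∈ four S) (hv1 : v ≠ 1) (hw : w ∈ four S) {g : G}
    (hg : g ∈ centralizer ({v} : Set G)) : g ∈ centralizer ({w} : Set G) :=
  mem_cent_of_commute (mem_centralizer_iff.1 (h.cent_mem_four hv hv1 hg) w hw).symm

/-- `S` is a trivial intersection subgroup. -/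
theorem ti (h : Triv S f) {g x : G} (hx : x ∈ (S : Subgroup G)) (hx1 : x ≠ 1)
    (hgx : g * x * g⁻¹ ∈ (S : Subgroup G)) : g ∈ normalizer ((S : Subgroup G) : Set G) := by
  obtain ⟨v, hv, hv1, hgv⟩ : ∃ v ∈ four S, v ≠ 1 ∧ g * v * g⁻¹ ∈ four S := by
    by_cases hxV : x ∈ four S
    · exact ⟨x, hxV, hx1, h.conf.mem_four_of_sq hgx (by
        rw [show g * x * g⁻¹ * (g * x * g⁻¹) = g * (x * x) * g⁻¹ by group, h.conf.four_sq hxV]; group)⟩
    · refine ⟨x * x, h.conf.sq_mem hx, fun e => hxV (h.conf.mem_four_of_sq hx e), ?_⟩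
      rw [show g * (x * x) * g⁻¹ = g * x * g⁻¹ * (g * x * g⁻¹) by group]
      exact h.conf.sq_mem hgx
  obtain ⟨n, hn, e⟩ := h.conf.exists_conj_four hv hv1 hgv (fun e => hv1 (conj_eq_one_iff.1 e))
  have hc : n⁻¹ * g ∈ centralizer ({v} : Set G) := mem_cent_of_commute (mul_inv_eq_iff_eq_mul.1 (by
    rw [show n⁻¹ * g * v * (n⁻¹ * g)⁻¹ = n⁻¹ * (g * v * g⁻¹) * n by group, ← e]; group))
  have := mul_mem hn (h.cent_le hv hv1 hc)
  rwa [mul_inv_cancel_left] at this

theorem cent_sylow_le (h : Triv S f) : centralizer ((S : Subgroup G) : Set G) ≤ (S : Subgroup G) := by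
  intro g hg
  obtain ⟨z, hz, hz1⟩ := h.conf.exists_ne_one
  obtain ⟨u, hu, huV⟩ := h.conf.exists_noncentral
  obtain ⟨j, hj, s, hs, e⟩ := h.cent_eq hz hz1
    (mem_cent_of_commute (mem_centralizer_iff.1 hg z (h.conf.four_le hz)).symm)
  by_cases hj0 : j = 0
  · rw [e, hj0, pow_zero, one_mul]; exact hs
  exfalso
  refine h.five.free j (fun ⟨c, hc⟩ => by omega) u hu huV ?_
  have hgu : g * u * g⁻¹ = u := by rw [← mem_centralizer_iff.1 hg u hu, mul_inv_cancel_right]
  rw [show f ^ j = g * s⁻¹ by rw [e, mul_inv_cancel_right],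
    show g * s⁻¹ * u * (g * s⁻¹)⁻¹ * u⁻¹ = g * ⁅s⁻¹, u⁆ * g⁻¹ * (g * u * g⁻¹ * u⁻¹) by
      rw [commutatorElement_def]; group,
    hgu, mul_inv_cancel, mul_one]
  have hv := h.conf.comm_mem (inv_mem hs) hu
  rwa [← mem_centralizer_iff.1 hg _ (h.conf.four_le hv), mul_inv_cancel_right]

theorem normalizes_four (h : Triv S f) {g v : G} (hg : g ∈ normalizer ((S : Subgroup G) : Set G))
    (hv : v ∈ four S) : g * v * g⁻¹ ∈ four S :=
  (mem_normalizer_iff.1 (h.conf.sylow_normalizer_le hg) v).1 hv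

theorem card_four_nontrivial (h : Triv S f) : Nat.card {v : four S // v ≠ 1} = 3 := by
  classical
  haveI := Fintype.ofFinite (four S)
  rw [Nat.card_eq_fintype_card, Fintype.card_subtype_compl, ← Nat.card_eq_fintype_card, h.conf.card_four]
  simp

/-- A subgroup of the normalizer is at most three times its part centralizing the involutions. -/
theorem card_le_three (h : Triv S f) {z : G} (hz : z ∈ four S) (hz1 : z ≠ 1) {L : Subgroup G}
    (hL : L ≤ normalizer ((S : Subgroup G) : Set G)) :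
    Nat.card L ≤ 3 * Nat.card ↥(L ⊓ centralizer ({z} : Set G)) := by
  classical
  haveI := Fintype.ofFinite L
  let F : L → {v : four S // v ≠ 1} := fun g => ⟨⟨(g : G) * z * (g : G)⁻¹, h.normalizes_four (hL g.2) hz⟩,
    fun e => hz1 (conj_eq_one_iff.1 (congrArg Subtype.val e))⟩
  haveI := Fintype.ofFinite {v : four S // v ≠ 1}
  have hfib : ∀ b, Nat.card {g : L // F g = b} ≤ Nat.card ↥(L ⊓ centralizer ({z} : Set G)) := by
    intro b
    by_cases hb : Nonempty {g : L // F g = b}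
    · obtain ⟨g0, hg0⟩ := hb
      refine Nat.card_le_card_of_injective (fun g : {g : L // F g = b} =>
        (⟨((g0⁻¹ * g.1 : L) : G), mem_inf.2 ⟨(g0⁻¹ * g.1).2, ?_⟩⟩ : ↥(L ⊓ centralizer ({z} : Set G))))
        fun g g' e => Subtype.ext (mul_left_cancel (Subtype.ext (congrArg (fun x : ↥(L ⊓ centralizer ({z} : Set G)) => (x : G)) e) : g0⁻¹ * g.1 = g0⁻¹ * g'.1))
      have e : (g.1 : G) * z * (g.1 : G)⁻¹ = (g0 : G) * z * (g0 : G)⁻¹ :=
        congrArg (fun v : {v : four S // v ≠ 1} => (v.1 : G)) (g.2.trans hg0.symm)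
      refine mem_cent_of_commute (mul_inv_eq_iff_eq_mul.1 ?_)
      rw [Subgroup.coe_mul, Subgroup.coe_inv,
        show ((g0 : G))⁻¹ * g.1 * z * (((g0 : G))⁻¹ * g.1)⁻¹ = (g0 : G)⁻¹ * ((g.1 : G) * z * (g.1 : G)⁻¹) * g0 by group, e]
      group
    · haveI := not_nonempty_iff.1 hb
      simp
  rw [← Nat.card_congr (Equiv.sigmaFiberEquiv F), Nat.card_sigma]
  refine (Finset.sum_le_sum fun b _ => hfib b).trans (le_of_eq ?_)
  rw [Finset.sum_const, Finset.card_univ, smul_eq_mul, ← Nat.card_eq_fintype_card, h.card_four_nontrivial]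

theorem card_eq_three (h : Triv S f) {z : G} (hz : z ∈ four S) (hz1 : z ≠ 1) {L : Subgroup G}
    (hL : L ≤ normalizer ((S : Subgroup G) : Set G)) {w : G} (hw : w ∈ L) (hw3 : orderOf w = 3) :
    Nat.card L = 3 * Nat.card ↥(L ⊓ centralizer ({z} : Set G)) := by
  refine le_antisymm (h.card_le_three hz hz1 hL) (Nat.le_of_dvd Nat.card_pos ?_)
  have h1 : Nat.card ↥(L ⊓ centralizer ({z} : Set G)) ∣ 320 :=
    h.card_cent hz hz1 ▸ Subgroup.card_dvd_of_le inf_le_right
  have h3 : ¬ 3 ∣ Nat.card ↥(L ⊓ centralizer ({z} : Set G)) := fun e => by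
    have := e.trans h1; norm_num at this
  exact Nat.Coprime.mul_dvd_of_dvd_of_dvd (Nat.prime_three.coprime_iff_not_dvd.2 h3)
    (hw3 ▸ Subgroup.orderOf_dvd_natCard L hw) (Subgroup.card_dvd_of_le inf_le_left)

/-- The centralizer of an involution is normal of index three in the normalizer of `S`. -/
theorem cent_normalized (h : Triv S f) {z : G} (hz : z ∈ four S) (hz1 : z ≠ 1) {g c : G}
    (hg : g ∈ normalizer ((S : Subgroup G) : Set G)) (hc : c ∈ centralizer ({z} : Set G)) :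
    g * c * g⁻¹ ∈ centralizer ({z} : Set G) := by
  have hgi : g⁻¹ * z * g ∈ four S := by
    have := h.normalizes_four (inv_mem hg) hz
    rwa [inv_inv] at this
  have hc' := mem_centralizer_iff.1 (h.cent_mem_four hz hz1 hc) _ hgi
  refine mem_cent_of_commute ?_
  calc g * c * g⁻¹ * z = g * (c * (g⁻¹ * z * g)) * g⁻¹ := by group
    _ = g * (g⁻¹ * z * g * c) * g⁻¹ := by rw [hc']
    _ = _ := by group

theorem card_normalizer (h : Triv S f) : Nat.card (normalizer ((S : Subgroup G) : Set G)) = 960 := by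
  obtain ⟨z, hz, hz1⟩ := h.conf.exists_ne_one
  rw [← mul_one 960]
  set M := normalizer ((S : Subgroup G) : Set G)
  have e : M ⊓ centralizer ({z} : Set G) = centralizer ({z} : Set G) := inf_eq_right.2 (h.cent_le hz hz1)
  have h1 := h.card_le_three hz hz1 (L := M) le_rfl
  rw [e, h.card_cent hz hz1] at h1
  obtain ⟨k, hk⟩ : 320 ∣ Nat.card M := h.card_cent hz hz1 ▸ Subgroup.card_dvd_of_le (h.cent_le hz hz1)
  have hk3 : k = 3 := by
    by_contra hne
    have hk12 : k = 1 ∨ k = 2 := by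
      have : 0 < Nat.card M := Nat.card_pos
      omega
    have h2 : ¬ (128 : ℕ) ∣ Nat.card M := fun hd => by
      haveI : Fact (Nat.Prime 2) := ⟨Nat.prime_two⟩
      have h7 := hd.trans (Subgroup.card_subgroup_dvd_card M)
      have hS := S.card_eq_multiplicity
      rw [h.conf.hs.card] at hS
      have h8 := (Nat.Prime.pow_dvd_iff_le_factorization Nat.prime_two (Nat.card_pos (α := G)).ne').1
        (show 2 ^ 7 ∣ Nat.card G from h7)
      have : (Nat.card G).factorization 2 = 6 := Nat.pow_right_injective le_rfl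
        (show (2 : ℕ) ^ (Nat.card G).factorization 2 = 2 ^ 6 by rw [← hS])
      omega
    rcases hk12 with rfl | rfl
    · obtain ⟨n, hn, hne'⟩ := h.conf.exists_moved hz hz1
      have e2 : centralizer ({z} : Set G) = M :=
        eq_of_le_of_card_ge (h.cent_le hz hz1) (by rw [h.card_cent hz hz1]; omega)
      exact hne' (mul_inv_eq_iff_eq_mul.2 (commute_of_mem_cent (e2.ge hn)))
    · exact h2 ⟨5, by omega⟩
  omega

theorem odd_pow_fifteen (h : Triv S f) {x : G} (hx : x ∈ normalizer ((S : Subgroup G) : Set G))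
    (hodd : Odd (orderOf x)) : x ^ 15 = 1 := by
  refine orderOf_dvd_iff_pow_eq_one.1 ?_
  have h1 : orderOf x ∣ 64 * 15 := by
    have := Subgroup.orderOf_dvd_natCard _ hx
    rwa [h.card_normalizer] at this
  exact ((Nat.coprime_two_right.2 hodd).pow_right 6).dvd_of_dvd_mul_left h1

theorem odd_cent_pow_five (h : Triv S f) {v x : G} (hv : v ∈ four S) (hv1 : v ≠ 1)
    (hx : x ∈ centralizer ({v} : Set G)) (hodd : Odd (orderOf x)) : x ^ 5 = 1 := by
  refine orderOf_dvd_iff_pow_eq_one.1 ?_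
  have h1 : orderOf x ∣ 64 * 5 := by
    have := Subgroup.orderOf_dvd_natCard _ hx
    rwa [h.card_cent hv hv1] at this
  exact ((Nat.coprime_two_right.2 hodd).pow_right 6).dvd_of_dvd_mul_left h1

/-- A Sylow `2`-subgroup of the centralizer of `f` is the four-group. -/
theorem cent_f_sylow (h : Triv S f) :
    ∃ Q : Sylow 2 (centralizer ({f} : Set G)),
      (Q : Subgroup (centralizer ({f} : Set G))) = (four S).subgroupOf (centralizer ({f} : Set G)) := by
  haveI : Fact (Nat.Prime 2) := ⟨Nat.prime_two⟩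
  set K := centralizer ({f} : Set G)
  have hVK : four S ≤ K := fun v hv => mem_cent_of_commute (by
    have := h.five.comm_four 1 hv
    rw [pow_one] at this
    exact this.symm)
  have hV2 : IsPGroup 2 ((four S).subgroupOf K) :=
    (S.2.to_le h.conf.four_le).comap_of_injective K.subtype K.subtype_injective
  obtain ⟨Q, hQ⟩ := hV2.exists_le_sylow
  refine ⟨Q, le_antisymm (fun q hq => mem_subgroupOf.2 ?_) hQ⟩
  obtain ⟨m, hm⟩ := exists_conj_into_sylow S (P := (Q : Subgroup K).map K.subtype) (Q.2.map K.subtype)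
  obtain ⟨z, hz, hz1⟩ := h.conf.exists_ne_one
  have hmM : m ∈ normalizer ((S : Subgroup G) : Set G) :=
    h.ti (h.conf.four_le hz) hz1 (hm z ⟨⟨z, hVK hz⟩, hQ (show (⟨z, hVK hz⟩ : K) ∈ (four S).subgroupOf K from hz), rfl⟩)
  have hqS : (q : G) ∈ (S : Subgroup G) := (mem_normalizer_iff.1 hmM q).2 (hm q ⟨q, hq, rfl⟩)
  by_contra hqV
  refine h.five.free 1 (by norm_num) q hqS hqV ?_
  rw [pow_one, ← (mem_centralizer_singleton_iff.1 q.2), mul_inv_cancel_right, mul_inv_cancel]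
  exact one_mem _

theorem f_not_inverted_in (h : Triv S f) {n : G} (hn : n ∈ normalizer ((S : Subgroup G) : Set G)) :
    n * f * n⁻¹ ≠ f⁻¹ := by
  intro e
  set M := normalizer ((S : Subgroup G) : Set G)
  haveI : ((S : Subgroup G).subgroupOf M).Normal := (normal_subgroupOf_iff_le_normalizer le_normalizer).2 le_rfl
  have hidx : ((S : Subgroup G).subgroupOf M).index = 15 := by
    have := ((S : Subgroup G).subgroupOf M).card_mul_index
    rw [Nat.card_congr (subgroupOfEquivOfLe le_normalizer).toEquiv, h.conf.hs.card, h.card_normalizer] at this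
    omega
  have h15 : n ^ 15 ∈ (S : Subgroup G) := by
    have := Subgroup.pow_index_mem ((S : Subgroup G).subgroupOf M) (⟨n, hn⟩ : M)
    rw [hidx] at this
    exact this
  have hodd : ∀ i : ℕ, n ^ (2 * i + 1) * f * (n ^ (2 * i + 1))⁻¹ = f⁻¹ := by
    intro i
    induction i with
    | zero => simpa using e
    | succ i ih =>
      calc n ^ (2 * (i + 1) + 1) * f * (n ^ (2 * (i + 1) + 1))⁻¹
          = n * (n * (n ^ (2 * i + 1) * f * (n ^ (2 * i + 1))⁻¹) * n⁻¹) * n⁻¹ := by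
            rw [show 2 * (i + 1) + 1 = 2 * i + 1 + 1 + 1 by ring, pow_succ', pow_succ']; group
        _ = n * (n * f⁻¹ * n⁻¹) * n⁻¹ := by rw [ih]
        _ = f⁻¹ := by rw [show n * f⁻¹ * n⁻¹ = (n * f * n⁻¹)⁻¹ by group, e, inv_inv, e]
  obtain ⟨z, hz, -⟩ := h.conf.exists_ne_one
  have h4 : f⁻¹ * (f ^ 4)⁻¹ = 1 := by rw [← mul_inv_rev, ← pow_succ, h.f_pow, inv_one]
  have := Five.shift h.conf h.five hz h15 (i := 1) (j := 4) (by norm_num) (by norm_num) (by
    rw [pow_one, hodd 7, h4]; exact one_mem _)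
  omega

/-- No element of order five of the normalizer is inverted in `G`. -/
theorem no_five (h : Triv S f) {d g : G} (hd : d ∈ normalizer ((S : Subgroup G) : Set G)) (hd5 : d ^ 5 = 1)
    (e : g * d * g⁻¹ = d⁻¹) : d = 1 := by
  by_contra hd1
  haveI : Fact (Nat.Prime 5) := ⟨Nat.prime_five⟩
  haveI : Fact (Nat.Prime 2) := ⟨Nat.prime_two⟩
  set M := normalizer ((S : Subgroup G) : Set G)
  have hord : orderOf d = 5 := orderOf_eq_prime hd5 hd1
  have hfac : (Nat.card M).factorization 5 = 1 := by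
    rw [h.card_normalizer]
    refine le_antisymm ?_ ((Nat.Prime.dvd_iff_one_le_factorization Nat.prime_five (by norm_num)).1 (by norm_num))
    by_contra hc
    have := (Nat.Prime.pow_dvd_iff_le_factorization Nat.prime_five (show (960 : ℕ) ≠ 0 by norm_num)).2 (Nat.not_le.1 hc : 2 ≤ (960 : ℕ).factorization 5)
    norm_num at this
  let PF : Sylow 5 M := Sylow.ofCard ((zpowers f).subgroupOf M) (by
    rw [Nat.card_congr (subgroupOfEquivOfLe (zpowers_le.2 h.f_normalizes)).toEquiv, Nat.card_zpowers, h.f_ord,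
      hfac, pow_one])
  have hP : IsPGroup 5 (zpowers (⟨d, hd⟩ : M)) := IsPGroup.of_card (n := 1) (by
    rw [Nat.card_zpowers, Subgroup.orderOf_mk, hord, pow_one])
  obtain ⟨m, hm⟩ := exists_conj_sylow PF hP
  have hdf : (m : G) * d * (m : G)⁻¹ ∈ zpowers f := hm _ (mem_zpowers _)
  obtain ⟨a, ha⟩ := mem_powers_iff_mem_zpowers.2 hdf
  have ha' : f ^ a = (m : G) * d * (m : G)⁻¹ := ha
  have ha5 : ¬ 5 ∣ a := fun ⟨c, hc⟩ => hd1 (conj_eq_one_iff.1 (by
    rw [← ha', hc, pow_mul, h.f_pow, one_pow]))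
  -- an element inverting `f`
  set g1 := (m : G) * g * (m : G)⁻¹ with hg1
  have e1 : g1 * f ^ a * g1⁻¹ = (f ^ a)⁻¹ := by
    rw [ha', hg1, show (m : G) * g * (m : G)⁻¹ * ((m : G) * d * (m : G)⁻¹) * ((m : G) * g * (m : G)⁻¹)⁻¹ =
      (m : G) * (g * d * g⁻¹) * (m : G)⁻¹ by group, e]
    group
  obtain ⟨b, hb⟩ := Nat.exists_mul_mod_eq_one_of_coprime
    ((Nat.prime_five.coprime_iff_not_dvd.2 ha5).symm) (by norm_num : 1 < 5)
  have hfab : (f ^ a) ^ b = f := by rw [← pow_mul, ← pow_mod_orderOf, h.f_ord, hb.2, pow_one]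
  have e2 : g1 * f * g1⁻¹ = f⁻¹ := by
    conv_lhs => rw [← hfab, ← conj_pow, e1, inv_pow, hfab]
  -- correct it into the normalizer
  set K := centralizer ({f} : Set G)
  obtain ⟨Q, hQ⟩ := h.cent_f_sylow
  obtain ⟨z, hz, hz1⟩ := h.conf.exists_ne_one
  have hgzK : g1 * z * g1⁻¹ ∈ K := by
    refine mem_cent_of_commute ?_
    have hzf : z * f⁻¹ = f⁻¹ * z :=
      (show Commute z f from (by have := h.five.comm_four 1 hz; rw [pow_one] at this; exact this.symm)).inv_right.eq
    have e3 : g1⁻¹ * f * g1 = f⁻¹ := by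
      have e4 : g1⁻¹ * f⁻¹ * g1 = f := by rw [← e2]; group
      rw [show g1⁻¹ * f * g1 = (g1⁻¹ * f⁻¹ * g1)⁻¹ by group, e4]
    calc g1 * z * g1⁻¹ * f = g1 * (z * (g1⁻¹ * f * g1)) * g1⁻¹ := by group
      _ = g1 * ((g1⁻¹ * f * g1) * z) * g1⁻¹ := by rw [e3, hzf]
      _ = _ := by group
  have hz2 : IsPGroup 2 (zpowers (⟨_, hgzK⟩ : K)) := IsPGroup.of_card (n := 1) (by
    rw [Nat.card_zpowers, Subgroup.orderOf_mk, pow_one]
    exact orderOf_eq_prime (by
      rw [pow_two, show g1 * z * g1⁻¹ * (g1 * z * g1⁻¹) = g1 * (z * z) * g1⁻¹ by group, h.conf.four_sq hz]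
      group) (fun e => hz1 (conj_eq_one_iff.1 e)))
  obtain ⟨c, hc⟩ := exists_conj_into_sylow Q hz2
  have hcv : (c : G) * (g1 * z * g1⁻¹) * (c : G)⁻¹ ∈ four S := by
    have := hc _ (mem_zpowers _)
    rw [hQ] at this
    exact this
  have hn : (c : G) * g1 ∈ M := h.ti (h.conf.four_le hz) hz1 (h.conf.four_le (by
    rwa [show (c : G) * g1 * z * ((c : G) * g1)⁻¹ = (c : G) * (g1 * z * g1⁻¹) * (c : G)⁻¹ by group]))
  refine h.f_not_inverted_in hn ?_
  rw [show (c : G) * g1 * f * ((c : G) * g1)⁻¹ = (c : G) * (g1 * f * g1⁻¹) * (c : G)⁻¹ by group, e2,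
    show (c : G) * f⁻¹ * (c : G)⁻¹ = ((c : G) * f * (c : G)⁻¹)⁻¹ by group,
    mem_centralizer_singleton_iff.1 c.2, mul_inv_cancel_right]

/-- An element of order three of `N(S)` centralizing `f`. -/
theorem exists_three (h : Triv S f) :
    ∃ y ∈ normalizer ((S : Subgroup G) : Set G), orderOf y = 3 ∧ y * f = f * y := by
  haveI : Fact (Nat.Prime 5) := ⟨Nat.prime_five⟩
  obtain ⟨z, hz, hz1⟩ := h.conf.exists_ne_one
  obtain ⟨n0, hn0, hmove⟩ := h.conf.exists_moved hz hz1
  set B := centralizer ({z} : Set G)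
  have hfB : f ∈ B := pow_one f ▸ h.five.pow_mem_cent hz 1
  have hfac : (Nat.card B).factorization 5 = 1 := by
    rw [h.card_cent hz hz1]
    refine le_antisymm ?_ ((Nat.Prime.dvd_iff_one_le_factorization Nat.prime_five (by norm_num)).1 (by norm_num))
    by_contra hc
    have := (Nat.Prime.pow_dvd_iff_le_factorization Nat.prime_five (show (320 : ℕ) ≠ 0 by norm_num)).2 (Nat.not_le.1 hc : 2 ≤ (320 : ℕ).factorization 5)
    norm_num at this
  let PF : Sylow 5 B := Sylow.ofCard ((zpowers f).subgroupOf B) (by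
    rw [Nat.card_congr (subgroupOfEquivOfLe (zpowers_le.2 hfB)).toEquiv, Nat.card_zpowers, h.f_ord, hfac, pow_one])
  have hf' : n0 * f * n0⁻¹ ∈ B := h.cent_normalized hz hz1 hn0 hfB
  have hP : IsPGroup 5 (zpowers (⟨_, hf'⟩ : B)) := IsPGroup.of_card (n := 1) (by
    rw [Nat.card_zpowers, Subgroup.orderOf_mk, show n0 * f * n0⁻¹ = (MulAut.conj n0).toMonoidHom f from rfl,
      orderOf_injective _ (MulEquiv.injective (MulAut.conj n0)), h.f_ord, pow_one])
  obtain ⟨b, hb⟩ := exists_conj_sylow PF hP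
  set n := (b : G) * n0 with hn_def
  have hn : n ∈ normalizer ((S : Subgroup G) : Set G) := mul_mem (h.cent_le hz hz1 b.2) hn0
  have hnf : n * f * n⁻¹ ∈ zpowers f := by
    have : (b : G) * (n0 * f * n0⁻¹) * (b : G)⁻¹ ∈ zpowers f := hb _ (mem_zpowers _)
    rwa [show n * f * n⁻¹ = (b : G) * (n0 * f * n0⁻¹) * (b : G)⁻¹ by rw [hn_def]; group]
  have hnmove : n * z * n⁻¹ ≠ z := fun e => hmove (by
    have hv := h.normalizes_four hn0 hz
    have hcomm := mem_centralizer_iff.1 (h.cent_mem_four hz hz1 b.2) _ hv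
    have : n * z * n⁻¹ = n0 * z * n0⁻¹ := by
      rw [hn_def, show (b : G) * n0 * z * ((b : G) * n0)⁻¹ = (b : G) * (n0 * z * n0⁻¹) * (b : G)⁻¹ by group,
        ← hcomm, mul_inv_cancel_right]
    rw [← this, e])
  obtain ⟨u, hu, w, hw, hu2, hwo, e⟩ := exists_parts n
  have hNf : zpowers n ≤ normalizer ((S : Subgroup G) : Set G) ⊓ normalizer ((zpowers f : Subgroup G) : Set G) :=
    zpowers_le.2 (mem_inf.2 ⟨hn, (Emb.mem_normalizer_iff_map _ _).2 (eq_of_le_of_card_ge (by
      rintro x ⟨v, hv, rfl⟩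
      obtain ⟨k, rfl⟩ := hv
      show n * f ^ k * n⁻¹ ∈ zpowers f
      rw [← conj_zpow]
      exact zpow_mem hnf k) (card_map_of_injective (MulEquiv.injective _)).ge)⟩)
  have huS : u ∈ (S : Subgroup G) := mem_of_twoEl_normalizer S hu2 (mem_inf.1 (hNf hu)).1
  have hwM := (mem_inf.1 (hNf hw)).1
  have hwmove : w * z * w⁻¹ ≠ z := fun e' => hnmove (by
    rw [e, show u * w * z * (u * w)⁻¹ = u * (w * z * w⁻¹) * u⁻¹ by group, e', ← h.conf.four_comm hz huS,
      mul_inv_cancel_right])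
  have hw5 : w ^ 5 ≠ 1 := fun e5 => hwmove (by
    set M := normalizer ((S : Subgroup G) : Set G)
    haveI : (B.subgroupOf M).Normal := ⟨fun c hc g => h.cent_normalized hz hz1 g.2 hc⟩
    have hidx : (B.subgroupOf M).index = 3 := by
      have := (B.subgroupOf M).card_mul_index
      rw [Nat.card_congr (subgroupOfEquivOfLe (h.cent_le hz hz1)).toEquiv, h.card_cent hz hz1,
        h.card_normalizer] at this
      omega
    have h3 : w ^ 3 ∈ B := by
      have := Subgroup.pow_index_mem (B.subgroupOf M) (⟨w, hwM⟩ : M)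
      rw [hidx] at this
      exact this
    have hwB : w ∈ B := by
      have : (w ^ 3) ^ 2 ∈ B := pow_mem h3 2
      rwa [← pow_mul, show 3 * 2 = 5 + 1 by norm_num, pow_succ, e5, one_mul] at this
    exact mul_inv_eq_iff_eq_mul.2 (commute_of_mem_cent hwB))
  have h15 := h.odd_pow_fifteen hwM hwo
  have hy3 : orderOf (w ^ 5) = 3 := orderOf_eq_prime (hp := ⟨Nat.prime_three⟩) (by rw [← pow_mul]; exact h15) hw5
  refine ⟨w ^ 5, pow_mem hwM 5, hy3, commute_of_coprime_pred h.f_ord (by rw [hy3]; norm_num) ?_⟩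
  exact (mem_normalizer_iff.1 (pow_mem (mem_inf.1 (hNf hw)).2 5) f).1 (mem_zpowers f)

theorem y_moves (h : Triv S f) {y v : G} (hy3 : orderOf y = 3)
    (hv : v ∈ four S) (hv1 : v ≠ 1) : y * v * y⁻¹ ≠ v := fun e => by
  have hmem : y ∈ centralizer ({v} : Set G) := mem_cent_of_commute (mul_inv_eq_iff_eq_mul.1 e)
  have := orderOf_dvd_of_pow_eq_one (h.odd_cent_pow_five hv hv1 hmem (by rw [hy3]; decide))
  rw [hy3] at this
  norm_num at this

/-- The normalizer of a subgroup of order three in `N(S)`. -/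
theorem three_normalizer (h : Triv S f) {y : G} (hy : y ∈ normalizer ((S : Subgroup G) : Set G))
    (hy3 : orderOf y = 3) (hyf : y * f = f * y) :
    Nat.card ↥(normalizer ((zpowers y : Subgroup G) : Set G) ⊓ normalizer ((S : Subgroup G) : Set G)) = 15 ∧
      normalizer ((zpowers y : Subgroup G) : Set G) ⊓ normalizer ((S : Subgroup G) : Set G) ≤
        centralizer ({f} : Set G) := by
  obtain ⟨z, hz, hz1⟩ := h.conf.exists_ne_one
  set M := normalizer ((S : Subgroup G) : Set G)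
  set N := normalizer ((zpowers y : Subgroup G) : Set G) ⊓ M
  have hfN : f ∈ N := by
    refine mem_inf.2 ⟨centralizer_le_normalizer _ (mem_centralizer_iff.2 fun w hw => ?_), h.f_normalizes⟩
    obtain ⟨k, rfl⟩ := hw
    exact ((show Commute f y from hyf.symm).zpow_right k).eq.symm
  have hyN : y ∈ N := mem_inf.2 ⟨le_normalizer (mem_zpowers y), hy⟩
  have hBN : ∀ g ∈ N ⊓ centralizer ({z} : Set G), g ∈ zpowers f := by
    rintro g ⟨hgN, hgB⟩
    obtain ⟨j, hj, s, hs, rfl⟩ := h.cent_eq hz hz1 hgB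
    suffices hs1 : s = 1 by rw [hs1, mul_one]; exact pow_mem (mem_zpowers f) j
    have hsN : s ∈ normalizer ((zpowers y : Subgroup G) : Set G) := by
      have := mul_mem (inv_mem (pow_mem (mem_inf.1 hfN).1 j)) (mem_inf.1 hgN).1
      rwa [inv_mul_cancel_left] at this
    have hc1 : s * y * s⁻¹ * y⁻¹ ∈ zpowers y :=
      mul_mem ((mem_normalizer_iff.1 hsN y).1 (mem_zpowers y)) (inv_mem (mem_zpowers y))
    have hc2 : s * y * s⁻¹ * y⁻¹ ∈ (S : Subgroup G) := by
      rw [show s * y * s⁻¹ * y⁻¹ = s * (y * s⁻¹ * y⁻¹) by group]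
      exact mul_mem hs ((mem_normalizer_iff.1 hy _).1 (inv_mem hs))
    have hc : s * y * s⁻¹ * y⁻¹ = 1 := eq_one_of_twoEl_odd (isTwoEl_of_sylow S hc2)
      (by rw [Nat.card_zpowers, hy3]; norm_num) hc1
    have hys : y * s * y⁻¹ = s := by
      rw [← mul_inv_eq_iff_eq_mul.1 (mul_inv_eq_one.1 hc), mul_inv_cancel_right]
    by_contra hs1
    by_cases hsV : s ∈ four S
    · exact h.y_moves hy3 hsV hs1 hys
    · refine h.y_moves hy3 (h.conf.sq_mem hs) (fun e => hsV (h.conf.mem_four_of_sq hs e)) ?_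
      rw [show y * (s * s) * y⁻¹ = y * s * y⁻¹ * (y * s * y⁻¹) by group, hys]
  have h5 : Nat.card ↥(N ⊓ centralizer ({z} : Set G)) = 5 := by
    have e : N ⊓ centralizer ({z} : Set G) = zpowers f := le_antisymm hBN
      (zpowers_le.2 (mem_inf.2 ⟨hfN, pow_one f ▸ h.five.pow_mem_cent hz 1⟩))
    rw [e, Nat.card_zpowers, h.f_ord]
  have h15 : Nat.card N = 15 := by rw [h.card_eq_three hz hz1 inf_le_right hyN hy3, h5]
  refine ⟨h15, ?_⟩
  have e : zpowers f ⊔ zpowers y = N := by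
    refine eq_of_le_of_card_ge (sup_le (zpowers_le.2 hfN) (zpowers_le.2 hyN)) ?_
    rw [h15]
    exact Nat.le_of_dvd Nat.card_pos (Nat.Coprime.mul_dvd_of_dvd_of_dvd (by norm_num : Nat.Coprime 5 3)
      (h.f_ord ▸ Subgroup.orderOf_dvd_natCard _ (mem_sup_left (mem_zpowers f)))
      (hy3 ▸ Subgroup.orderOf_dvd_natCard _ (mem_sup_right (mem_zpowers y))))
  exact e ▸ sup_le (zpowers_le.2 (mem_cent_of_commute rfl)) (zpowers_le.2 (mem_cent_of_commute hyf))

end Triv

end CfsgLib.U34Char
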