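import Cfsg.Agent.Lib.U34Char.Order.Group

/-!
The order of the group is `62400`.
-/

set_option autoImplicit false
set_option linter.unusedSectionVars false
set_option linter.style.haveILetI false

namespace CfsgLib.U34Char

open Subgroup Cfsg CfsgLib.HallE8 CfsgLib.ZCReduction CfsgLib.PiClosedTwo

universe u

variable {G : Type u} [Group G] [Finite G]

theorem mem_normalizer_zpowers {g y : G} (h : g * y * g⁻¹ ∈ zpowers y) :
    g ∈ normalizer ((zpowers y : Subgroup G) : Set G) :=
  (Emb.mem_normalizer_iff_map _ _).2 (eq_of_le_of_card_ge (by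
    rw [MonoidHom.map_zpowers]
    exact zpowers_le.2 h) (card_map_of_injective (MulEquiv.injective _)).ge)

theorem coe_mem_zpowers {K : Subgroup G} {x y : K} : x ∈ zpowers y ↔ (x : G) ∈ zpowers (y : G) := by
  constructor
  · rintro ⟨k, rfl⟩
    exact ⟨k, (SubgroupClass.coe_zpow _ _).symm⟩
  · rintro ⟨k, hk⟩
    exact ⟨k, Subtype.ext ((SubgroupClass.coe_zpow _ _).trans hk)⟩

/-- An involution normalizing a subgroup of prime order centralizes or inverts it. -/
theorem fix_or_invert {t x : G} {p : ℕ} [Fact p.Prime] (hx : orderOf x = p) (ht : t * t = 1)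
    (hn : t * x * t⁻¹ ∈ zpowers x) : t * x = x * t ∨ t * x * t⁻¹ = x⁻¹ := by
  set w := x * (t * x * t⁻¹) with hw
  have hcomm : x * (t * x * t⁻¹) = t * x * t⁻¹ * x := by
    obtain ⟨k, hk⟩ := hn
    have hk' : x ^ k = t * x * t⁻¹ := hk
    rw [← hk', ← zpow_one_add, ← zpow_add_one, add_comm]
  have hfix : t * w * t⁻¹ = w := by
    have hti : t⁻¹ = t := inv_eq_of_mul_eq_one_right ht
    calc t * w * t⁻¹ = t * x * t⁻¹ * (t * t * x * (t⁻¹ * t⁻¹)) := by rw [hw]; group
      _ = t * x * t⁻¹ * x := by rw [ht, hti, ht, one_mul, mul_one]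
      _ = w := hcomm.symm
  by_cases hw1 : w = 1
  · exact Or.inr (eq_inv_of_mul_eq_one_right hw1)
  · left
    have hwz : w ∈ zpowers x := mul_mem (mem_zpowers x) hn
    have hwo : orderOf w = p :=
      (((Nat.dvd_prime (Fact.out : p.Prime)).1 (hx ▸ orderOf_dvd_of_mem_zpowers hwz)).resolve_left
        fun e => hw1 (orderOf_eq_one_iff.1 e))
    have e : zpowers w = zpowers x :=
      eq_of_le_of_card_ge (zpowers_le.2 hwz) (by rw [Nat.card_zpowers, Nat.card_zpowers, hwo, hx])
    obtain ⟨k, hk⟩ : x ∈ zpowers w := e ▸ mem_zpowers x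
    have h2 : Commute t w := mul_inv_eq_iff_eq_mul.1 hfix
    have hk' : w ^ k = x := hk
    rw [← hk']
    exact (h2.zpow_right k).eq

/-- The fixed points of an element of order five on a subgroup it normalizes. -/
theorem card_modEq_fixed {f : G} (hf : orderOf f = 5) {L : Subgroup G}
    (hn : ∀ x ∈ L, f * x * f⁻¹ ∈ L) :
    Nat.card L ≡ Nat.card ↥(L ⊓ centralizer ({f} : Set G)) [MOD 5] := by
  haveI : Fact (Nat.Prime 5) := ⟨Nat.prime_five⟩
  have hL : zpowers f ≤ normalizer (L : Set G) := zpowers_le.2 (CfsgLib.Comp.mem_normalizer_of_maps hn)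
  letI : MulAction (zpowers f) L :=
    { smul := fun g x => ⟨(g : G) * x * (g : G)⁻¹, (mem_normalizer_iff.1 (hL g.2) x).1 x.2⟩
      one_smul := fun x => Subtype.ext (show (1 : G) * x * (1 : G)⁻¹ = x by group)
      mul_smul := fun g g' x => Subtype.ext (show (g : G) * g' * x * ((g : G) * g')⁻¹ =
        g * (g' * x * (g' : G)⁻¹) * (g : G)⁻¹ by group) }
  have hp : IsPGroup 5 (zpowers f) := IsPGroup.of_card (n := 1) (by rw [Nat.card_zpowers, hf, pow_one])
  refine (hp.card_modEq_card_fixedPoints (α := L)).trans (congrArg (· % 5) ?_)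
  refine Nat.card_congr
    { toFun := fun x => ⟨(x.1 : G), mem_inf.2 ⟨x.1.2, mem_cent_of_commute (mul_inv_eq_iff_eq_mul.1
        (congrArg Subtype.val (x.2 ⟨f, mem_zpowers f⟩))).symm⟩⟩
      invFun := fun x => ⟨⟨(x : G), (mem_inf.1 x.2).1⟩, fun g => Subtype.ext ?_⟩
      left_inv := fun x => rfl
      right_inv := fun x => rfl }
  show (g : G) * x * (g : G)⁻¹ = x
  obtain ⟨k, hk⟩ := g.2
  have hk' : f ^ k = (g : G) := hk
  rw [← hk', ((show Commute (x : G) f from commute_of_mem_cent (mem_inf.1 x.2).2).zpow_right k).eq.symm,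
    mul_inv_cancel_right]

namespace Triv

variable {S : Sylow 2 G} {f y : G}

theorem invol_mem (h : Triv S f) {t : G} (ht : t ∈ normalizer ((S : Subgroup G) : Set G)) (h2 : t * t = 1) :
    t ∈ four S := by
  obtain ⟨i, -, hi⟩ := (Nat.dvd_prime_pow Nat.prime_two).1
    (orderOf_dvd_of_pow_eq_one (show t ^ 2 ^ 1 = 1 by rw [pow_one, pow_two, h2]))
  exact h.conf.mem_four_of_sq (mem_of_twoEl_normalizer S ⟨i, hi⟩ ht) h2

theorem into_four (h : Triv S f) {t : G} (ht : t * t = 1) : ∃ g : G, g * t * g⁻¹ ∈ four S := by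
  haveI : Fact (Nat.Prime 2) := ⟨Nat.prime_two⟩
  have hp : IsPGroup 2 (zpowers t) := by
    obtain ⟨i, -, hi⟩ := (Nat.dvd_prime_pow Nat.prime_two).1
      (orderOf_dvd_of_pow_eq_one (show t ^ 2 ^ 1 = 1 by rw [pow_one, pow_two, ht]))
    exact IsPGroup.of_card (n := i) (by rw [Nat.card_zpowers, hi])
  obtain ⟨m, hm⟩ := exists_conj_into_sylow S hp
  exact ⟨m, h.conf.mem_four_of_sq (hm t (mem_zpowers t)) (Emb.conj_sq ht)⟩

theorem normalizer_cent (h : Triv S f) (hy : y ∈ normalizer ((S : Subgroup G) : Set G)) (hy3 : orderOf y = 3)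
    (hyf : y * f = f * y) :
    normalizer ((zpowers y : Subgroup G) : Set G) ⊓ normalizer ((S : Subgroup G) : Set G) =
      centralizer ({y} : Set G) ⊓ normalizer ((S : Subgroup G) : Set G) := by
  haveI : Fact (Nat.Prime 3) := ⟨Nat.prime_three⟩
  refine le_antisymm (fun g hg => mem_inf.2 ⟨mem_cent_of_commute (commute_of_coprime_pred hy3 ?_
    ((mem_normalizer_iff.1 (mem_inf.1 hg).1 y).1 (mem_zpowers y))), (mem_inf.1 hg).2⟩) (inf_le_inf_right _ ?_)
  · have hd : orderOf g ∣ 15 := (h.three_normalizer hy hy3 hyf).1 ▸ Subgroup.orderOf_dvd_natCard _ hg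
    exact Nat.Coprime.coprime_dvd_left hd (by norm_num)
  · intro g hg
    exact mem_normalizer_zpowers (by rw [commute_of_mem_cent hg, mul_inv_cancel_right]; exact mem_zpowers y)

theorem emb_top (h : Triv S f) (hy : y ∈ normalizer ((S : Subgroup G) : Set G)) (hy3 : orderOf y = 3)
    (hyf : y * f = f * y) : Emb (normalizer ((S : Subgroup G) : Set G)) (four S) y where
  le := h.conf.four_le.trans le_normalizer
  card_V := h.conf.card_four
  sq := fun _ hv => h.conf.four_sq hv
  invol := fun _ ht h2 => h.invol_mem ht h2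
  into := fun _ ht => h.into_four ht
  ti := fun _ v hv hv1 hgv => h.ti (h.conf.four_le hv) hv1 (h.conf.four_le hgv)
  cent_five := fun v hv hv1 x _ hodd hxv => h.odd_cent_pow_five hv hv1 (mem_cent_of_commute hxv) hodd
  no_five := fun _ hd hd5 _ e => h.no_five hd hd5 e
  card_H := h.card_normalizer ▸ dvd_rfl
  y_mem := hy
  y_ord := hy3
  card_norm := (h.three_normalizer hy hy3 hyf).1

theorem card_cent_inter (h : Triv S f) (hy : y ∈ normalizer ((S : Subgroup G) : Set G)) (hy3 : orderOf y = 3)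
    (hyf : y * f = f * y) :
    Nat.card ↥(normalizer ((S : Subgroup G) : Set G) ⊓ centralizer ({f} : Set G)) = 60 := by
  obtain ⟨z, hz, hz1⟩ := h.conf.exists_ne_one
  set M := normalizer ((S : Subgroup G) : Set G)
  set K := centralizer ({f} : Set G)
  have hfv : ∀ v ∈ four S, v * f = f * v := fun v hv => by
    have := h.five.comm_four 1 hv
    rw [pow_one] at this
    exact this.symm
  rw [h.card_eq_three hz hz1 inf_le_left (mem_inf.2 ⟨hy, mem_cent_of_commute hyf⟩) hy3,
    show (60 : ℕ) = 3 * Nat.card (Fin 5 × four S) by rw [Nat.card_prod, Nat.card_fin, h.conf.card_four]]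
  congr 1
  refine (Nat.card_congr (Equiv.ofBijective (fun p : Fin 5 × four S =>
    (⟨f ^ (p.1 : ℕ) * p.2, mem_inf.2 ⟨mem_inf.2 ⟨mul_mem (pow_mem h.f_normalizes _)
        (le_normalizer (h.conf.four_le p.2.2)),
      mul_mem (pow_mem (mem_cent_of_commute rfl) _) (mem_cent_of_commute (hfv _ p.2.2))⟩,
      mul_mem (h.five.pow_mem_cent hz _) (Five.sylow_le h.conf hz (h.conf.four_le p.2.2))⟩⟩ :
      ↥((M ⊓ K) ⊓ centralizer ({z} : Set G)))) ⟨?_, ?_⟩)).symm
  · rintro ⟨i, v⟩ ⟨j, v'⟩ e
    obtain ⟨hij, hvv⟩ := h.decomp_unique (h.conf.four_le v.2) (h.conf.four_le v'.2) i.2 j.2 (congrArg Subtype.val e)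
    rw [Fin.ext hij, Subtype.ext hvv]
  · rintro ⟨g, hgMK, hgz⟩
    obtain ⟨j, hj, s, hs, rfl⟩ := h.cent_eq hz hz1 hgz
    have hsK : s ∈ K := by
      have := mul_mem (inv_mem (pow_mem (mem_cent_of_commute rfl : f ∈ K) j)) (mem_inf.1 hgMK).2
      rwa [inv_mul_cancel_left] at this
    have hsV : s ∈ four S := by
      by_contra hsV
      refine h.five.free 1 (by norm_num) s hs hsV ?_
      rw [pow_one, ← commute_of_mem_cent hsK, mul_inv_cancel_right, mul_inv_cancel]
      exact one_mem _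
    exact ⟨(⟨j, hj⟩, ⟨s, hsV⟩), rfl⟩

theorem emb_cent (h : Triv S f) (hy : y ∈ normalizer ((S : Subgroup G) : Set G)) (hy3 : orderOf y = 3)
    (hyf : y * f = f * y) :
    Emb ((normalizer ((S : Subgroup G) : Set G)).subgroupOf (centralizer ({f} : Set G)))
      ((four S).subgroupOf (centralizer ({f} : Set G)))
      (⟨y, mem_cent_of_commute hyf⟩ : centralizer ({f} : Set G)) := by
  haveI : Fact (Nat.Prime 2) := ⟨Nat.prime_two⟩
  set M := normalizer ((S : Subgroup G) : Set G)
  set K := centralizer ({f} : Set G)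
  have hVK : four S ≤ K := fun v hv => mem_cent_of_commute (by
    have := h.five.comm_four 1 hv
    rw [pow_one] at this
    exact this.symm)
  refine
    { le := fun v hv => h.conf.four_le.trans le_normalizer hv
      card_V := by rw [Nat.card_congr (subgroupOfEquivOfLe hVK).toEquiv, h.conf.card_four]
      sq := fun v hv => Subtype.ext (h.conf.four_sq hv)
      invol := fun t ht h2 => h.invol_mem ht (congrArg Subtype.val h2)
      into := fun t ht => ?_
      ti := fun g v hv hv1 hgv => h.ti (h.conf.four_le hv) (fun e => hv1 (Subtype.ext e)) (h.conf.four_le hgv)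
      cent_five := fun v hv hv1 x _ hodd hxv => Subtype.ext (by
        rw [Subgroup.coe_pow]
        exact h.odd_cent_pow_five hv (fun e => hv1 (Subtype.ext e)) (mem_cent_of_commute (congrArg Subtype.val hxv))
          (by rw [Subgroup.orderOf_coe]; exact hodd))
      no_five := fun d hd hd5 g e => Subtype.ext (h.no_five hd (congrArg Subtype.val hd5) (congrArg Subtype.val e))
      card_H := ?_
      y_mem := hy
      y_ord := by rw [Subgroup.orderOf_mk]; exact hy3
      card_norm := ?_ }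
  · obtain ⟨Q, hQ⟩ := h.cent_f_sylow
    obtain ⟨i, -, hi⟩ := (Nat.dvd_prime_pow Nat.prime_two).1
      (orderOf_dvd_of_pow_eq_one (show t ^ 2 ^ 1 = 1 by rw [pow_one, pow_two, ht]))
    obtain ⟨m, hm⟩ := exists_conj_into_sylow Q (P := zpowers t)
      (IsPGroup.of_card (n := i) (by rw [Nat.card_zpowers, hi]))
    exact ⟨m, hQ ▸ hm t (mem_zpowers t)⟩
  · have : Nat.card (M.subgroupOf K) = Nat.card ↥(M ⊓ K) := by
      rw [← card_map_of_injective K.subtype_injective, subgroupOf_map_subtype]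
    rw [this, h.card_cent_inter hy hy3 hyf]
    norm_num
  · rw [← (h.three_normalizer hy hy3 hyf).1]
    set yK : K := ⟨y, mem_cent_of_commute hyf⟩
    refine Nat.card_congr
      { toFun := fun g => ⟨((g : K) : G), mem_inf.2 ⟨mem_normalizer_zpowers
          ((coe_mem_zpowers (x := (g : K) * yK * (g : K)⁻¹) (y := yK)).1
            ((mem_normalizer_iff.1 (mem_inf.1 g.2).1 yK).1 (mem_zpowers yK))), (mem_inf.1 g.2).2⟩⟩
        invFun := fun g => ⟨⟨(g : G), (h.three_normalizer hy hy3 hyf).2 g.2⟩, mem_inf.2 ⟨mem_normalizer_zpowers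
          ((coe_mem_zpowers (y := yK)).2 ((mem_normalizer_iff.1 (mem_inf.1 g.2).1 y).1 (mem_zpowers y))),
          (mem_inf.1 g.2).2⟩⟩
        left_inv := fun g => rfl
        right_inv := fun g => rfl }

theorem normalizer_ne_top (h : Triv S f) : normalizer ((S : Subgroup G) : Set G) ≠ ⊤ := by
  intro e
  haveI : (S : Subgroup G).Normal := normalizer_eq_top_iff.1 e
  rcases h.conf.normal_cases (S : Subgroup G) with e' | e'
  · have := h.conf.hs.card
    rw [e', card_bot] at this
    norm_num at this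
  · have := Subgroup.orderOf_dvd_natCard (S : Subgroup G) (e' ▸ mem_top f)
    rw [h.f_ord, h.conf.hs.card] at this
    norm_num at this

/-- The centralizer of `f` and `y` has order fifteen. -/
theorem card_cent_pair (h : Triv S f) (hy : y ∈ normalizer ((S : Subgroup G) : Set G)) (hy3 : orderOf y = 3)
    (hyf : y * f = f * y) :
    Nat.card ↥(centralizer ({y} : Set G) ⊓ centralizer ({f} : Set G)) = 15 := by
  haveI : Fact (Nat.Prime 2) := ⟨Nat.prime_two⟩
  haveI : Fact (Nat.Prime 7) := ⟨by norm_num⟩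
  set M := normalizer ((S : Subgroup G) : Set G)
  set K := centralizer ({f} : Set G)
  set yK : K := ⟨y, mem_cent_of_commute hyf⟩
  have hE := h.emb_cent hy hy3 hyf
  have hH : Nat.card (M.subgroupOf K) = 60 := by
    rw [← card_map_of_injective K.subtype_injective, subgroupOf_map_subtype, h.card_cent_inter hy hy3 hyf]
  have hAK : Nat.card (centralizer ({yK} : Set K)) = Nat.card ↥(centralizer ({y} : Set G) ⊓ K) :=
    Nat.card_congr
      { toFun := fun g => ⟨((g : K) : G),
          mem_inf.2 ⟨mem_cent_of_commute (congrArg Subtype.val (commute_of_mem_cent g.2)), (g : K).2⟩⟩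
        invFun := fun g => ⟨⟨(g : G), (mem_inf.1 g.2).2⟩,
          mem_cent_of_commute (Subtype.ext (commute_of_mem_cent (mem_inf.1 g.2).1))⟩
        left_inv := fun g => rfl
        right_inv := fun g => rfl }
  by_cases hne : M.subgroupOf K = ⊤
  · have hKM : K ≤ M := subgroupOf_eq_top.1 hne
    rw [← (h.three_normalizer hy hy3 hyf).1, h.normalizer_cent hy hy3 hyf]
    refine congrArg (fun L : Subgroup G => Nat.card L) (le_antisymm (inf_le_inf_left _ hKM) ?_)
    exact fun g hg => mem_inf.2 ⟨(mem_inf.1 hg).1,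
      (h.three_normalizer hy hy3 hyf).2 (h.normalizer_cent hy hy3 hyf ▸ hg)⟩
  obtain ⟨m, hm, hA, hidx⟩ := hE.count hne
  rw [← hAK, hA]
  have hK := (M.subgroupOf K).card_mul_index
  rw [hH] at hK hidx
  set n := (M.subgroupOf K).index
  have hmd : 15 * m ∣ 60 * n := hA ▸ hK ▸ Subgroup.card_subgroup_dvd_card _
  obtain ⟨k, hk⟩ := hm
  have hn : n = 8 * m - 3 := by
    have : 0 < n := Nat.pos_of_ne_zero (index_ne_zero_of_finite (H := M.subgroupOf K))
    omega
  have hm12 : m ∣ 12 := by
    have h1 : 15 * m ∣ 15 * (4 * n) := by rwa [show 15 * (4 * n) = 60 * n by ring]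
    have h2 : m ∣ 4 * n := Nat.dvd_of_mul_dvd_mul_left (by norm_num) h1
    rw [hn, Nat.mul_sub, show 4 * (8 * m) = 32 * m by ring] at h2
    have h3 := Nat.dvd_sub (dvd_mul_left m 32) h2
    rwa [show 32 * m - (32 * m - 4 * 3) = 12 by omega] at h3
  have hm13 : m = 1 ∨ m = 3 := by
    have := Nat.le_of_dvd (by norm_num) hm12
    interval_cases m <;> first | omega | (norm_num at hm12)
  rcases hm13 with rfl | rfl
  · rfl
  exfalso
  -- the case of twenty-one points
  have hK' : Nat.card K = 1260 := by rw [← hK, hn]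
  obtain ⟨P⟩ : Nonempty (Sylow 7 K) := inferInstance
  have hP7 : Nat.card (P : Subgroup K) = 7 := by
    have hfac : (Nat.card K).factorization 7 = 1 := by
      rw [hK']
      refine le_antisymm ?_ ((Nat.Prime.dvd_iff_one_le_factorization (by norm_num) (by norm_num)).1 (by norm_num))
      by_contra hc
      have := (Nat.Prime.pow_dvd_iff_le_factorization (show Nat.Prime 7 by norm_num)
        (show (1260 : ℕ) ≠ 0 by norm_num)).2 (Nat.not_le.1 hc : 2 ≤ (1260 : ℕ).factorization 7)
      norm_num at this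
    rw [P.card_eq_multiplicity, hfac, pow_one]
  obtain ⟨x, hx⟩ : ∃ x : K, x ∈ (P : Subgroup K) ∧ orderOf x = 7 := by
    obtain ⟨x, hx⟩ := exists_prime_orderOf_dvd_card' (G := (P : Subgroup K)) 7 (by rw [hP7])
    exact ⟨x, x.2, by rwa [Subgroup.orderOf_coe]⟩
  have hPx : (P : Subgroup K) = zpowers x :=
    (eq_of_le_of_card_ge (zpowers_le.2 hx.1) (by rw [Nat.card_zpowers, hx.2, hP7])).symm
  set N := normalizer ((P : Subgroup K) : Set K)
  have hnot : ∀ t : K, t * t = 1 → t ≠ 1 → t * x ≠ x * t := by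
    intro t ht ht1 e
    obtain ⟨g, hg⟩ := h.into_four (congrArg Subtype.val ht : (t : G) * t = 1)
    have hv1 : g * (t : G) * g⁻¹ ≠ 1 := fun e' => ht1 (Subtype.ext (conj_eq_one_iff.1 e'))
    have hxc : g * (x : G) * g⁻¹ ∈ centralizer ({g * (t : G) * g⁻¹} : Set G) :=
      mem_cent_of_commute (conj_commute g (congrArg Subtype.val e).symm)
    have hxo : orderOf (g * (x : G) * g⁻¹) = 7 := by
      rw [show g * (x : G) * g⁻¹ = (MulAut.conj g).toMonoidHom x from rfl,
        orderOf_injective _ (MulEquiv.injective (MulAut.conj g)), Subgroup.orderOf_coe, hx.2]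
    have := orderOf_dvd_of_pow_eq_one (h.odd_cent_pow_five hg hv1 hxc (by rw [hxo]; decide))
    rw [hxo] at this
    norm_num at this
  have hmul := N.card_mul_index
  have hsyl : Nat.card (Sylow 7 K) = N.index := P.card_eq_index_normalizer
  have hmod : N.index % 7 = 1 := hsyl ▸ card_sylow_modEq_one 7 K
  have h7N : 7 ∣ Nat.card N := hP7 ▸ Subgroup.card_dvd_of_le le_normalizer
  have hidx36 : N.index ∣ 180 := by
    obtain ⟨c, hc⟩ := h7N
    rw [hc, hK'] at hmul
    exact ⟨c, by nlinarith⟩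
  have hcases : N.index = 1 ∨ N.index = 15 ∨ N.index = 36 := by
    have := Nat.le_of_dvd (by norm_num) hidx36
    revert hmod hidx36
    generalize N.index = i at this ⊢
    intro h1 h2
    interval_cases i <;> first | omega | (norm_num at h2)
  rw [hK'] at hmul
  rcases hcases with e | e | e
  iterate 2
    have h4 : 4 ∣ Nat.card N := by rw [e] at hmul; omega
    obtain ⟨E, hE4⟩ := Sylow.exists_subgroup_card_pow_prime (G := N) 2 (n := 2) h4
    have hEsq : ∀ w : N, w ∈ E → (w : K) * w = 1 := by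
      intro w hw
      obtain ⟨Q, hQ⟩ := h.cent_f_sylow
      obtain ⟨c, hc⟩ := exists_conj_into_sylow Q (P := E.map N.subtype)
        ((IsPGroup.of_card (n := 2) hE4).map N.subtype)
      have := hc _ ⟨w, hw, rfl⟩
      rw [hQ] at this
      have h2 : c * (w : K) * c⁻¹ * (c * (w : K) * c⁻¹) = 1 := Subtype.ext (h.conf.four_sq this)
      rw [show c * (w : K) * c⁻¹ * (c * (w : K) * c⁻¹) = c * ((w : K) * w) * c⁻¹ by group] at h2
      exact conj_eq_one_iff.1 h2
    have hinv : ∀ w : N, w ∈ E → w ≠ 1 → (w : K) * x * (w : K)⁻¹ = x⁻¹ := fun w hw hw1 =>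
      (fix_or_invert hx.2 (hEsq w hw) (by
        rw [← hPx]
        exact (mem_normalizer_iff.1 w.2 x).1 hx.1)).resolve_left
        (hnot _ (hEsq w hw) fun e' => hw1 (Subtype.ext e'))
    haveI : Nontrivial E := Finite.one_lt_card_iff_nontrivial.1 (by rw [hE4]; norm_num)
    obtain ⟨⟨w1, hw1⟩, hne1⟩ := exists_ne (1 : E)
    have hw11 : w1 ≠ 1 := fun e' => hne1 (Subtype.ext e')
    obtain ⟨w2, hw2, hw21, hw2ne⟩ : ∃ w2 ∈ E, w2 ≠ 1 ∧ w2 ≠ w1 := by
      by_contra hc
      push Not at hc
      have hsub : (E : Set N) ⊆ {1, w1} := fun w hw => by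
        by_cases hw' : w = 1
        · exact Or.inl hw'
        · exact Or.inr (hc w hw hw')
      have := (Set.ncard_le_ncard hsub (Set.toFinite _)).trans
        ((Set.ncard_insert_le _ _).trans (by rw [Set.ncard_singleton]))
      rw [← Nat.card_coe_set_eq, SetLike.coe_sort_coe, hE4] at this
      norm_num at this
    have hprod : ((w1 * w2 : N) : K) * x * ((w1 * w2 : N) : K)⁻¹ = x := by
      rw [Subgroup.coe_mul, show (w1 : K) * w2 * x * ((w1 : K) * w2)⁻¹ =
        (w1 : K) * ((w2 : K) * x * (w2 : K)⁻¹) * (w1 : K)⁻¹ by group, hinv w2 hw2 hw21,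
        show (w1 : K) * x⁻¹ * (w1 : K)⁻¹ = ((w1 : K) * x * (w1 : K)⁻¹)⁻¹ by group, hinv w1 hw1 hw11, inv_inv]
    refine hnot _ (hEsq _ (mul_mem hw1 hw2)) (fun e' => hw2ne ?_) (mul_inv_eq_iff_eq_mul.1 hprod)
    have e1 : (w1 : K) * w2 = 1 := e'
    exact Subtype.ext ((eq_inv_of_mul_eq_one_right e1).trans (inv_eq_of_mul_eq_one_right (hEsq w1 hw1)))
  · have hN35 : Nat.card N = 35 := by rw [e] at hmul; omega
    have hburn : HasNormalPComplement 7 K :=
      CfsgLib.hasNormalPComplement_of_normalizer_le_centralizer P fun g hg => by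
        refine mem_centralizer_iff.2 fun w hw => ?_
        have hgx : g * x = x * g := commute_of_coprime_pred hx.2
          (Nat.Coprime.coprime_dvd_left (hN35 ▸ Subgroup.orderOf_dvd_natCard N hg) (by norm_num))
          (hPx ▸ (mem_normalizer_iff.1 hg x).1 hx.1)
        have hw' : w ∈ zpowers x := hPx ▸ hw
        obtain ⟨k, rfl⟩ := hw'
        exact ((show Commute g x from hgx).zpow_right k).eq.symm
    obtain ⟨P', C, hC, hcompl⟩ := hburn
    haveI := hC
    have hP7' : Nat.card (P' : Subgroup K) = 7 := by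
      rw [P'.card_eq_multiplicity, ← P.card_eq_multiplicity, hP7]
    have hC180 : Nat.card C = 180 := by
      have := hcompl.card_mul
      rw [hP7', hK'] at this
      omega
    have hCidx : C.index = 7 := by
      have := C.card_mul_index
      rw [hC180, hK'] at this
      omega
    obtain ⟨Q, hQ⟩ := h.cent_f_sylow
    have hQC : (Q : Subgroup K) ≤ C := fun v hv => by
      have h2 : v * v = 1 := Subtype.ext (h.conf.four_sq (hQ ▸ hv : v ∈ (four S).subgroupOf K))
      have := Subgroup.pow_index_mem C v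
      rwa [hCidx, pow_succ, show v ^ 6 = (v * v) * (v * v) * (v * v) by simp [pow_succ, mul_assoc], h2, one_mul,
        one_mul, one_mul] at this
    have htop := Sylow.normalizer_sup_eq_top (Q.subtype hQC)
    rw [Sylow.coe_subtype, map_subgroupOf_eq_of_le hQC] at htop
    have hle : normalizer ((Q : Subgroup K) : Set K) ≤ M.subgroupOf K := fun g hg => by
      obtain ⟨z, hz, hz1⟩ := h.conf.exists_ne_one
      have hzK : z ∈ K := mem_cent_of_commute (by
        have := h.five.comm_four 1 hz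
        rw [pow_one] at this
        exact this.symm)
      have h1 := (mem_normalizer_iff.1 hg ⟨z, hzK⟩).1 (hQ ▸ (hz : (⟨z, hzK⟩ : K) ∈ (four S).subgroupOf K))
      rw [hQ] at h1
      exact h.ti (h.conf.four_le hz) hz1 (h.conf.four_le h1)
    have htop' : C ⊔ M.subgroupOf K = ⊤ := top_le_iff.1 (htop ▸ sup_le (hle.trans le_sup_right) le_sup_left)
    have := card_sup_mul (A := C) (B := M.subgroupOf K) (le_top.trans_eq (normalizer_eq_top_iff.2 hC).symm)
    rw [htop', card_top, hK', hC180, hH] at this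
    omega

/-- **The order.** -/
theorem card_eq (h : Triv S f) : Nat.card G = 62400 := by
  haveI : Fact (Nat.Prime 5) := ⟨Nat.prime_five⟩
  obtain ⟨y, hy, hy3, hyf⟩ := h.exists_three
  obtain ⟨m, hm, hA, hidx⟩ := (h.emb_top hy hy3 hyf).count h.normalizer_ne_top
  set M := normalizer ((S : Subgroup G) : Set G)
  set A := centralizer ({y} : Set G)
  set K := centralizer ({f} : Set G)
  have hAK : Nat.card ↥(A ⊓ K) = 15 := h.card_cent_pair hy hy3 hyf
  have hG := M.card_mul_index
  rw [h.card_normalizer] at hG hidx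
  have hfA : f ∈ A := mem_cent_of_commute hyf.symm
  have hodd : Odd (Nat.card A) := by
    rw [hA]; exact (show Odd 15 by decide).mul hm
  -- the Sylow five-subgroup of `A`
  have h25 : ¬ 25 ∣ Nat.card A := by
    intro hd
    obtain ⟨P, hP⟩ := (IsPGroup.of_card (n := 1) (G := zpowers (⟨f, hfA⟩ : A)) (by
      rw [Nat.card_zpowers, Subgroup.orderOf_mk, h.f_ord, pow_one])).exists_le_sylow
    set PG := (P : Subgroup A).map A.subtype with hPG
    have hfP : f ∈ PG := ⟨⟨f, hfA⟩, hP (mem_zpowers _), rfl⟩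
    have hsmall : ∀ w ∈ PG, w * f = f * w → w ∈ zpowers f := by
      intro w hw hwf
      have h1 : Nat.card ↥(PG ⊓ K) ∣ 15 := hAK ▸ Subgroup.card_dvd_of_le
        (le_inf (inf_le_left.trans (map_subtype_le _)) inf_le_right)
      obtain ⟨i, hi⟩ := IsPGroup.iff_card.1 ((P.2.map A.subtype).to_le (inf_le_left : PG ⊓ K ≤ PG))
      rw [hi] at h1
      have hi1 : i ≤ 1 := by
        by_contra hc
        have := (pow_dvd_pow 5 (show 2 ≤ i by omega)).trans h1
        norm_num at this
      have e : zpowers f = PG ⊓ K := eq_of_le_of_card_ge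
        (zpowers_le.2 (mem_inf.2 ⟨hfP, mem_cent_of_commute rfl⟩)) (by
          rw [Nat.card_zpowers, h.f_ord, hi]
          exact (Nat.pow_le_pow_right (by norm_num) hi1).trans (by norm_num))
      rw [e]
      exact mem_inf.2 ⟨hw, mem_cent_of_commute hwf⟩
    haveI : Nontrivial (P : Subgroup A) := ⟨⟨⟨⟨f, hfA⟩, hP (mem_zpowers _)⟩, 1, fun e => by
      have e' : f = 1 := congrArg (fun w : (P : Subgroup A) => ((w : A) : G)) e
      have := h.f_ord
      rw [e', orderOf_one] at this
      norm_num at this⟩⟩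
    haveI := P.2.center_nontrivial
    obtain ⟨⟨c, hc⟩, hc1⟩ := exists_ne (1 : Subgroup.center (P : Subgroup A))
    set cG : G := ((c : A) : G)
    have hcc : ∀ w ∈ PG, cG * w = w * cG := by
      rintro _ ⟨w, hw, rfl⟩
      exact congrArg (fun v : (P : Subgroup A) => ((v : A) : G)) (mem_center_iff.1 hc ⟨w, hw⟩).symm
    have hcz : cG ∈ zpowers f := hsmall cG ⟨c, c.2, rfl⟩ (hcc f hfP)
    have hc1' : cG ≠ 1 := fun e => hc1 (Subtype.ext (Subtype.ext (Subtype.ext e)))
    have e : zpowers cG = zpowers f := eq_of_le_of_card_ge (zpowers_le.2 hcz) (by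
      rw [Nat.card_zpowers, Nat.card_zpowers, h.f_ord]
      rcases (Nat.dvd_prime Nat.prime_five).1 (h.f_ord ▸ orderOf_dvd_of_mem_zpowers hcz) with e | e
      · exact absurd (orderOf_eq_one_iff.1 e) hc1'
      · rw [e])
    have hle : PG ≤ zpowers f := fun w hw => hsmall w hw (by
      obtain ⟨k, hk⟩ : f ∈ zpowers cG := e ▸ mem_zpowers f
      have hk' : cG ^ k = f := hk
      rw [← hk']
      exact ((show Commute cG w from hcc w hw).zpow_left k).eq.symm)
    have h5 : Nat.card PG ≤ 5 := h.f_ord ▸ Nat.card_zpowers f ▸ Nat.le_of_dvd Nat.card_pos (Subgroup.card_dvd_of_le hle)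
    rw [hPG, card_map_of_injective A.subtype_injective, P.card_eq_multiplicity] at h5
    have h2 := (Nat.Prime.pow_dvd_iff_le_factorization Nat.prime_five Nat.card_pos.ne').1
      (show 5 ^ 2 ∣ Nat.card A from hd)
    have := (Nat.pow_le_pow_right (show 0 < 5 by norm_num) h2).trans h5
    norm_num at this
  have hfac : (Nat.card A).factorization 5 = 1 := by
    refine le_antisymm ?_ ((Nat.Prime.dvd_iff_one_le_factorization Nat.prime_five Nat.card_pos.ne').1
      (h.f_ord ▸ Subgroup.orderOf_dvd_natCard A hfA))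
    by_contra hc
    exact h25 ((Nat.Prime.pow_dvd_iff_le_factorization Nat.prime_five Nat.card_pos.ne').2
      (Nat.not_le.1 hc : 2 ≤ (Nat.card A).factorization 5))
  let PF : Sylow 5 A := Sylow.ofCard (zpowers (⟨f, hfA⟩ : A)) (by
    rw [Nat.card_zpowers, Subgroup.orderOf_mk, h.f_ord, hfac, pow_one])
  obtain ⟨P', A0, hA0n, hcompl⟩ := CfsgLib.hasNormalPComplement_of_normalizer_le_centralizer PF fun g hg => by
    refine mem_centralizer_iff.2 fun w hw => ?_
    have h1 : g * (⟨f, hfA⟩ : A) * g⁻¹ ∈ zpowers (⟨f, hfA⟩ : A) :=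
      (mem_normalizer_iff.1 hg _).1 (mem_zpowers _)
    have hgodd : Odd (orderOf g) := Odd.of_dvd_nat hodd (orderOf_dvd_natCard g)
    have hgf : g * (⟨f, hfA⟩ : A) = ⟨f, hfA⟩ * g := commute_of_coprime_pred (p := 5)
      (by rw [Subgroup.orderOf_mk]; exact h.f_ord)
      (show (orderOf g).Coprime (2 ^ 2) from (Nat.coprime_two_right.2 hgodd).pow_right 2) h1
    obtain ⟨k, rfl⟩ := hw
    exact ((show Commute g (⟨f, hfA⟩ : A) from hgf).zpow_right k).eq.symm
  haveI := hA0n
  have hP5 : Nat.card (P' : Subgroup A) = 5 := by rw [P'.card_eq_multiplicity, hfac, pow_one]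
  have hA0c : Nat.card A0 = 3 * m := by
    have := hcompl.card_mul
    rw [hP5, hA] at this
    omega
  have hA0i : A0.index = 5 := by
    have := A0.card_mul_index
    rw [hA0c, hA, show 15 * m = 3 * m * 5 by ring] at this
    have hmpos : 0 < 3 * m := by obtain ⟨k, hk⟩ := hm; omega
    exact Nat.eq_of_mul_eq_mul_left hmpos this
  set L := A0.map A.subtype with hL
  have hLc : Nat.card L = 3 * m := by rw [hL, card_map_of_injective A.subtype_injective, hA0c]
  have hLn : ∀ x ∈ L, f * x * f⁻¹ ∈ L := by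
    rintro _ ⟨w, hw, rfl⟩
    exact ⟨_, hA0n.conj_mem w hw ⟨f, hfA⟩, rfl⟩
  have hyL : y ∈ L := by
    have h1 := Subgroup.pow_index_mem A0 (⟨y, mem_cent_of_commute rfl⟩ : A)
    rw [hA0i] at h1
    refine ⟨⟨y, mem_cent_of_commute rfl⟩, ?_, rfl⟩
    have h2 := pow_mem h1 2
    rwa [← pow_mul, show (⟨y, mem_cent_of_commute rfl⟩ : A) ^ (5 * 2) = ⟨y, mem_cent_of_commute rfl⟩ from
      Subtype.ext (by
        rw [SubmonoidClass.coe_pow]
        show y ^ (5 * 2) = y
        rw [← pow_mod_orderOf, hy3, pow_one])] at h2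
  have hm5 : ¬ 5 ∣ m := fun ⟨c, hc⟩ => h25 ⟨3 * c, by rw [hA, hc]; ring⟩
  have hfix : Nat.card ↥(L ⊓ K) = 3 := by
    refine Nat.dvd_antisymm ?_ ?_
    · have h1 : Nat.card ↥(L ⊓ K) ∣ 15 := hAK ▸ Subgroup.card_dvd_of_le
        (le_inf (inf_le_left.trans (map_subtype_le _)) inf_le_right)
      have h2 : Nat.card ↥(L ⊓ K) ∣ 3 * m := hLc ▸ Subgroup.card_dvd_of_le inf_le_left
      have h3 := Nat.dvd_gcd h1 h2
      rwa [show (15 : ℕ) = 3 * 5 by norm_num, Nat.gcd_mul_left,
        (Nat.prime_five.coprime_iff_not_dvd.2 hm5).gcd_eq_one, mul_one] at h3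
    · exact hy3 ▸ Subgroup.orderOf_dvd_natCard _ (mem_inf.2 ⟨hyL, mem_cent_of_commute hyf⟩)
  have hmod : (3 * m) % 5 = 3 := by
    have := card_modEq_fixed h.f_ord hLn
    rw [hLc, hfix] at this
    exact this
  set n := M.index
  have hn : n = 128 * m - 63 := by
    have : 0 < n := Nat.pos_of_ne_zero (index_ne_zero_of_finite (H := M))
    obtain ⟨k, hk⟩ := hm
    omega
  have hm63 : m ∣ 63 := by
    have h1 : 15 * m ∣ 960 * n := hA ▸ hG ▸ Subgroup.card_subgroup_dvd_card _
    have h2 : m ∣ 64 * n := Nat.dvd_of_mul_dvd_mul_left (show 0 < 15 by norm_num)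
      (by rwa [show 15 * (64 * n) = 960 * n by ring])
    rw [hn, Nat.mul_sub, show 64 * (128 * m) = 8192 * m by ring] at h2
    have h3 := Nat.dvd_sub (dvd_mul_left m 8192) h2
    have hmpos : 0 < m := by obtain ⟨k, hk⟩ := hm; omega
    rw [show 8192 * m - (8192 * m - 64 * 63) = 2 ^ 6 * 63 by omega] at h3
    exact ((Nat.coprime_two_right.2 hm).pow_right 6).dvd_of_dvd_mul_left h3
  have hm121 : m = 1 ∨ m = 21 := by
    have := Nat.le_of_dvd (by norm_num) hm63
    interval_cases m <;> first | omega | (norm_num at hm63)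
  rcases hm121 with rfl | rfl
  · rw [← hG, hn]
  exfalso
  haveI : Fact (Nat.Prime 7) := ⟨by norm_num⟩
  haveI : Finite L := inferInstance
  obtain ⟨P7⟩ : Nonempty (Sylow 7 L) := inferInstance
  have hP7 : Nat.card (P7 : Subgroup L) = 7 := by
    have hf7 : (Nat.card L).factorization 7 = 1 := by
      rw [hLc]
      refine le_antisymm ?_ ((Nat.Prime.dvd_iff_one_le_factorization (by norm_num) (by norm_num)).1 (by norm_num))
      by_contra hc
      have := (Nat.Prime.pow_dvd_iff_le_factorization (show Nat.Prime 7 by norm_num)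
        (show (3 * 21 : ℕ) ≠ 0 by norm_num)).2 (Nat.not_le.1 hc : 2 ≤ (3 * 21 : ℕ).factorization 7)
      norm_num at this
    rw [P7.card_eq_multiplicity, hf7, pow_one]
  have hone : Nat.card (Sylow 7 L) = 1 := by
    have h1 := P7.card_dvd_index
    have h2 : (P7 : Subgroup L).index = 9 := by
      have := (P7 : Subgroup L).card_mul_index
      rw [hP7, hLc] at this
      omega
    rw [h2] at h1
    have h3 := card_sylow_modEq_one 7 L
    have h4 := Nat.le_of_dvd (by norm_num) h1
    have h5 : Nat.card (Sylow 7 L) % 7 = 1 := h3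
    generalize Nat.card (Sylow 7 L) = i at h1 h4 h5 ⊢
    interval_cases i <;> first | omega | (norm_num at h1)
  haveI := (Nat.card_eq_one_iff_unique.1 hone).1
  set R := (P7 : Subgroup L).map L.subtype with hR
  have hRn : ∀ x ∈ R, f * x * f⁻¹ ∈ R := by
    rintro _ ⟨w, hw, rfl⟩
    let wf : L := ⟨f * (w : G) * f⁻¹, hLn _ w.2⟩
    have hp : IsPGroup 7 (zpowers wf) := by
      obtain ⟨k, hk⟩ := IsPGroup.iff_orderOf.1 P7.2 ⟨w, hw⟩
      rw [Subgroup.orderOf_mk] at hk
      exact IsPGroup.of_card (n := k) (by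
        rw [Nat.card_zpowers, ← Subgroup.orderOf_coe, show ((wf : L) : G) = (MulAut.conj f).toMonoidHom w from rfl,
          orderOf_injective _ (MulEquiv.injective (MulAut.conj f)), Subgroup.orderOf_coe, hk])
    obtain ⟨Q, hQ⟩ := hp.exists_le_sylow
    exact ⟨wf, Subsingleton.elim Q P7 ▸ hQ (mem_zpowers wf), rfl⟩
  have hR7 : Nat.card R = 7 := by rw [hR, card_map_of_injective L.subtype_injective, hP7]
  have h2 := card_modEq_fixed h.f_ord hRn
  have h3 : Nat.card ↥(R ⊓ K) ∣ 7 := hR7 ▸ Subgroup.card_dvd_of_le inf_le_left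
  have h4 : Nat.card ↥(R ⊓ K) ∣ 3 :=
    hfix ▸ Subgroup.card_dvd_of_le (inf_le_inf_right _ (map_subtype_le _))
  have h5 := Nat.eq_one_of_dvd_coprimes (by norm_num : Nat.Coprime 7 3) h3 h4
  rw [h5, hR7] at h2
  exact absurd h2 (by decide)

end Triv

end CfsgLib.U34Char
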